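import Cfsg.Agent.Lib.ChevCent.Over.Extract

/-!
# The coefficients of the root elements in an overgroup form a field
-/

set_option autoImplicit false
set_option linter.unusedSectionVars false

namespace CfsgLib.ChevCent.Over

open Cfsg.Lie CfsgLib.Chev CfsgLib.ChevField

variable {D : ChevalleyDatum} {T : Tabs} {K : Type*} [Field K]

/-- the coefficients `a` with `x_s(a)` in the group -/
def coef (hc : Checked D T) (H : Subgroup (GL D.Idx K)) {s : ℕ} (hs : s < D.nroots) : AddSubgroup K where
  carrier := {a | elX D K s a ∈ H}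
  zero_mem' := by show elX D K s 0 ∈ H; rw [elX_zero hc K hs]; exact one_mem _
  add_mem' {a b} ha hb := by show elX D K s (a + b) ∈ H; rw [← elX_add hc K hs]; exact mul_mem ha hb
  neg_mem' {a} ha := by show elX D K s (-a) ∈ H; rw [← elX_inv hc K hs]; exact inv_mem ha

/-- an edge along which a field of coefficients propagates -/
def EdgeOK (D : ChevalleyDatum) (q : ℕ) (e : ℕ × ℕ) : Prop :=
  e.1 < D.rank ∧ e.2 < D.rank ∧ (D.cartan e.1 (D.simple e.2) = -1 ∨ D.cartan e.1 (D.simple e.2) = -(q : ℤ))

/-- the fundamental roots reached from `i` along the edges, taken in order -/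
def reachB : List ℕ → List (ℕ × ℕ) → List ℕ
  | S, [] => S
  | S, e :: l => reachB (if S.contains e.1 then e.2 :: S else S) l

section
variable {σ : K →+* K} {H : Subgroup (GL D.Idx K)} {Z : List ℕ}
variable (hB : Base D T K Z) (hS : Setting D K σ H)
include hB hS

theorem coef_finite {s : ℕ} (hs : s < D.nroots) : Finite (coef hB.checked H hs) := by
  haveI := hS.finite
  refine Finite.of_injective (fun a : coef hB.checked H hs => (⟨elX D K s a, a.2⟩ : ↥H)) fun a b h => ?_
  have h' : elX D K s (a : K) = elX D K s b := congrArg Subtype.val h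
  refine Subtype.ext (sub_eq_zero.1 ((elX_eq_one_iff hB.checked hs _).1 ?_))
  rw [sub_eq_add_neg, ← elX_add hB.checked K hs, h', elX_add hB.checked K hs, add_neg_cancel, elX_zero hB.checked K hs]

theorem coef_fixed {s : ℕ} (hs : s < D.nroots) {a : K} (ha : σ a = a) : elX D K s a ∈ H := hS.root s hs a ha

theorem coef_sig (i : Fin D.rank) {s : ℕ} (hs : s < D.nroots) {a : K} (ha : elX D K s a ∈ H) :
    elX D K (sig D T i s) a ∈ H := by
  have hc := hB.checked
  have hn : elN D K (D.simple i.val) 1 ∈ H := by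
    have := monomial_mem hB hS [i]
    simpa [nProd] using this
  have h1 : elX D K (sig D T i s) ((eta D T i s : K) * a) ∈ H := by
    rw [← nOne_conj_elX hc i hs a]
    exact mul_mem (mul_mem hn ha) (inv_mem hn)
  rcases eta_cast hc (F := K) i hs with e | e
  · rwa [e, one_mul] at h1
  · rw [e, neg_one_mul, ← elX_inv hc K (sig_lt hc i hs)] at h1
    exact inv_inv (elX D K (sig D T i s) a) ▸ inv_mem h1

theorem coef_sigs (L : List (Fin D.rank)) {s : ℕ} (hs : s < D.nroots) {a : K} (ha : elX D K s a ∈ H) :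
    elX D K (sigs D T L s) a ∈ H := by
  induction L with
  | nil => exact ha
  | cons i L ih => rw [sigs_cons]; exact coef_sig hB hS i (sigs_lt hB.checked L hs) ih

theorem coef_sigs_iff (L : List (Fin D.rank)) {s : ℕ} (hs : s < D.nroots) {a : K} :
    elX D K (sigs D T L s) a ∈ H ↔ elX D K s a ∈ H :=
  ⟨fun h => by
    have := coef_sigs hB hS L.reverse (sigs_lt hB.checked L hs) h
    rwa [sigs_reverse hB.checked L hs] at this, coef_sigs hB hS L hs⟩

/-- a commutator triangle in the orbit makes the coefficients a ring -/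
theorem coef_mul {r : ℕ} (hr : r < D.nroots) (La Lb Lv : List (Fin D.rank))
    (h : SoleOK D K (sigs D T La r) (sigs D T Lb r) (sigs D T Lv r)) {x y : K}
    (hx : elX D K r x ∈ H) (hy : elX D K r y ∈ H) : elX D K r (x * y) ∈ H := by
  have hc := hB.checked
  haveI := coef_finite hB hS hr
  obtain ⟨C, hC, -, hconj⟩ := sole_conj hc hB.comm h
  have hmul : ∀ t u : coef hc H hr, elX D K r ((C : K) * (t * u)) ∈ H := by
    intro t u
    have ha : elX D K (sigs D T La r) (t : K) ∈ H := coef_sigs hB hS La hr t.2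
    have hb : elX D K (sigs D T Lb r) (u : K) ∈ H := coef_sigs hB hS Lb hr u.2
    have h1 := mul_mem (inv_mem hb) (mul_mem (mul_mem ha hb) (inv_mem ha))
    rw [hconj, inv_mul_cancel_left] at h1
    exact (coef_sigs_iff hB hS Lv hr).1 h1
  let f : coef hc H hr → coef hc H hr := fun t => ⟨(C : K) * t, by
    have := hmul t ⟨1, coef_fixed hB hS hr (map_one σ)⟩
    rwa [mul_one] at this⟩
  have hf : Function.Injective f := fun a b hab =>
    Subtype.ext (mul_left_cancel₀ hC (congrArg Subtype.val hab :))
  obtain ⟨z, hz⟩ := Finite.surjective_of_injective hf ⟨(C : K) * (x * y), hmul ⟨x, hx⟩ ⟨y, hy⟩⟩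
  have hz' : (z : K) = x * y := mul_left_cancel₀ hC (congrArg Subtype.val hz :)
  exact hz' ▸ z.2

/-- the field of coefficients of a root -/
theorem exists_coef_field {r : ℕ} (hr : r < D.nroots)
    (hmul : ∀ x y : K, elX D K r x ∈ H → elX D K r y ∈ H → elX D K r (x * y) ∈ H) :
    ∃ L : Subfield K, Finite L ∧ ∀ a, a ∈ L ↔ elX D K r a ∈ H := by
  have hc := hB.checked
  haveI := coef_finite hB hS hr
  let L : Subfield K :=
    { carrier := {a | elX D K r a ∈ H}
      one_mem' := coef_fixed hB hS hr (map_one σ)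
      mul_mem' := fun {a b} => hmul a b
      zero_mem' := (coef hc H hr).zero_mem
      add_mem' := fun {a b} => (coef hc H hr).add_mem
      neg_mem' := fun {a} => (coef hc H hr).neg_mem
      inv_mem' := fun a ha => by
        rcases eq_or_ne a 0 with rfl | ha0
        · rw [inv_zero]; exact (coef hc H hr).zero_mem
        let f : coef hc H hr → coef hc H hr := fun t => ⟨a * t, hmul a t ha t.2⟩
        have hf : Function.Injective f := fun s t hst =>
          Subtype.ext (mul_left_cancel₀ ha0 (congrArg Subtype.val hst :))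
        obtain ⟨z, hz⟩ := Finite.surjective_of_injective hf ⟨1, coef_fixed hB hS hr (map_one σ)⟩
        have hz' : a * (z : K) = 1 := congrArg Subtype.val hz
        show elX D K r a⁻¹ ∈ H
        rw [← eq_inv_of_mul_eq_one_right hz']
        exact z.2 }
  exact ⟨L, Finite.of_injective (fun a : L => (⟨a.1, a.2⟩ : coef hc H hr))
    fun a b h => Subtype.ext (congrArg (fun c : coef hc H hr => (c : K)) h), fun a => Iff.rfl⟩

/-- a finite field of coefficients passes along an edge -/
theorem coef_edge (q : ℕ) [Fact q.Prime] [CharP K q] {L : Subfield K} [Finite L] {e : ℕ × ℕ} (he : EdgeOK D q e)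
    (hL : ∀ a ∈ L, elX D K (D.simple e.1) a ∈ H) : ∀ a ∈ L, elX D K (D.simple e.2) a ∈ H := by
  obtain ⟨hi, hj, hcart⟩ := he
  have hc := hB.checked
  set i : Fin D.rank := ⟨e.1, hi⟩
  have hp := simple_lt hc hi
  have hneg : ∀ a ∈ L, elX D K (D.neg (D.simple e.1)) a ∈ H := fun a ha => by
    have := coef_sig hB hS i hp (hL a ha)
    rwa [sig_simple hc i] at this
  have hpow : ∀ l : Kˣ, (l : K) ∈ L → elX D K (D.simple e.2) ((l : K) ^ D.cartan e.1 (D.simple e.2)) ∈ H := by
    intro l hl
    have hN : ∀ t : K, t ∈ L → elN D K (D.simple e.1) t ∈ H := fun t ht => by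
      rw [elN]
      exact mul_mem (mul_mem (hL _ ht) (hneg _ (neg_mem (inv_mem ht)))) (hL _ ht)
    have hH : torus D T K (corChar D T (D.simple e.1) l) ∈ H := by
      rw [← elH_eq_torus hc hp, elH]
      exact mul_mem (hN _ hl) (hN _ (neg_mem (one_mem _)))
    have h1 := mul_mem (mul_mem hH (hS.root _ (simple_lt hc hj) 1 (map_one σ))) (inv_mem hH)
    rw [torus_conj_elX hc _ (simple_lt hc hj), show D.simple e.1 = D.simple i.val from rfl,
      chi_corChar_simple hc i (simple_lt hc hj), mul_one, Units.val_zpow_eq_zpow_val] at h1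
    exact h1
  intro a ha
  rcases eq_or_ne a 0 with rfl | ha0
  · exact (coef hc H (simple_lt hc hj)).zero_mem
  rcases hcart with e1 | e1
  · have := hpow (Units.mk0 a⁻¹ (inv_ne_zero ha0)) (inv_mem ha)
    rwa [e1, zpow_neg_one, Units.val_mk0, inv_inv] at this
  · have hq0 : q ≠ 0 := (Fact.out : q.Prime).ne_zero
    haveI : CharP L q := (L.subtype).charP L.subtype.injective q
    obtain ⟨b, hb⟩ := Finite.surjective_of_injective (f := frobenius L q) (frobenius_inj L q) ⟨a, ha⟩
    have hb' : (b : K) ^ q = a := congrArg Subtype.val hb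
    have hb0 : (b : K) ≠ 0 := fun h0 => ha0 (by rw [← hb', h0, zero_pow hq0])
    have := hpow (Units.mk0 (b : K)⁻¹ (inv_ne_zero hb0)) (inv_mem b.2)
    rwa [e1, zpow_neg, zpow_natCast, Units.val_mk0, inv_pow, inv_inv, hb'] at this

theorem coef_reach (q : ℕ) [Fact q.Prime] [CharP K q] {L : Subfield K} [Finite L] :
    ∀ (l : List (ℕ × ℕ)) (S : List ℕ), (∀ e ∈ l, EdgeOK D q e) →
      (∀ i ∈ S, ∀ a ∈ L, elX D K (D.simple i) a ∈ H) →
      ∀ i ∈ reachB S l, ∀ a ∈ L, elX D K (D.simple i) a ∈ H := by
  intro l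
  induction l with
  | nil => intro S _ hS'; exact hS'
  | cons e l ih =>
    intro S hl hS'
    refine ih _ (fun x hx => hl x (List.mem_cons_of_mem _ hx)) ?_
    by_cases he : S.contains e.1
    · rw [if_pos he]
      intro i hi
      rcases List.mem_cons.1 hi with rfl | hi
      · exact coef_edge hB hS q (hl e (List.mem_cons_self ..)) (hS' e.1 (List.contains_iff_mem.1 he))
      · exact hS' i hi
    · rw [if_neg he]; exact hS'

/-- a field of coefficients of one root serves all roots -/
theorem coef_all (q : ℕ) [Fact q.Prime] [CharP K q] {L : Subfield K} [Finite L] {r : ℕ} (hr : r < D.nroots)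
    (L₀ : List (Fin D.rank)) {i₁ : ℕ} (hw : sigs D T L₀ r = D.simple i₁) (l : List (ℕ × ℕ))
    (hl : ∀ e ∈ l, EdgeOK D q e) (hreach : ∀ i < D.rank, i ∈ reachB [i₁] l) (hL : ∀ a ∈ L, elX D K r a ∈ H) :
    ∀ s < D.nroots, ∀ a ∈ L, elX D K s a ∈ H := by
  have hc := hB.checked
  have hsimple : ∀ i : Fin D.rank, ∀ a ∈ L, elX D K (D.simple i.val) a ∈ H := fun i =>
    coef_reach hB hS q l [i₁] hl (fun j hj a ha => by
      rw [List.mem_singleton.1 hj, ← hw]
      exact coef_sigs hB hS L₀ hr (hL a ha)) i.val (hreach i.val i.2)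
  intro s hs a ha
  exact root_induction hc (P := fun s => elX D K s a ∈ H) (fun i => hsimple i a ha)
    (fun i s hs h => coef_sig hB hS i hs h) hs

end

end CfsgLib.ChevCent.Over
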