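import Cfsg.Agent.Lib.ChevCent.Over.End
import Cfsg.Agent.Lib.ChevCent.Over.Coeff

/-!
# Kernel-checkable forms of the side conditions
-/

set_option autoImplicit false
set_option linter.unusedSectionVars false

namespace CfsgLib.ChevCent.Over

open Cfsg.Lie CfsgLib.Chev CfsgLib.ChevField

variable {D : ChevalleyDatum} {T : Tabs} {K : Type*} [Field K]

/-- the classes of characteristics -/
def KClass (K : Type*) [Field K] (k : ℕ) : Prop :=
  (k = 2 ∧ CharP K 2) ∨ (k = 3 ∧ CharP K 3) ∨ (k = 5 ∧ (2 : K) ≠ 0 ∧ (3 : K) ≠ 0)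

/-- a coefficient known to vanish -/
def vanB (k : ℕ) (c : ℤ) : Bool := if k == 5 then c == 0 else c.natAbs % k == 0

/-- a coefficient known to be invertible -/
def untB (k : ℕ) (c : ℤ) : Bool := if k == 5 then decide (1 ≤ c.natAbs ∧ c.natAbs ≤ 4) else c.natAbs % k != 0

theorem van_spec {k : ℕ} (hk : KClass K k) {c : ℤ} (h : vanB k c = true) : (c : K) = 0 := by
  rcases hk with ⟨rfl, hp⟩ | ⟨rfl, hp⟩ | ⟨rfl, -⟩ <;> simp [vanB] at h
  · exact (CharP.intCast_eq_zero_iff K 2 c).2 (Int.natCast_dvd.2 (by omega))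
  · exact (CharP.intCast_eq_zero_iff K 3 c).2 (Int.natCast_dvd.2 (by omega))
  · simp [h]

theorem unt_spec {k : ℕ} (hk : KClass K k) {c : ℤ} (h : untB k c = true) : (c : K) ≠ 0 := by
  intro h0
  rcases hk with ⟨rfl, hp⟩ | ⟨rfl, hp⟩ | ⟨rfl, h2, h3⟩ <;> simp [untB] at h
  · have := Int.natCast_dvd.1 ((CharP.intCast_eq_zero_iff K 2 c).1 h0); omega
  · have := Int.natCast_dvd.1 ((CharP.intCast_eq_zero_iff K 3 c).1 h0); omega
  · have hn : ((c.natAbs : ℕ) : K) = 0 := by
      rcases Int.natAbs_eq c with e | e <;> rw [e] at h0 <;> simpa using h0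
    obtain ⟨h1, h4⟩ := h
    interval_cases hc' : c.natAbs
    · simp at hn
    · exact h2 (by exact_mod_cast hn)
    · exact h3 (by exact_mod_cast hn)
    · have : (2 : K) * 2 = 0 := by norm_num; exact_mod_cast hn
      exact h2 (mul_self_eq_zero.1 this)

/-- all terms of a pair vanish -/
def vanTermsB (D : ChevalleyDatum) (k r s : ℕ) : Bool := (D.commTerms r s).all fun q => vanB k q.2.1

/-- the positive roots -/
def posList (D : ChevalleyDatum) : List ℕ := (List.range D.nroots).filter fun r => decide (D.nroots / 2 ≤ r)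

theorem mem_posList {r : ℕ} : r ∈ posList D ↔ r < D.nroots ∧ PosR D r := by simp [posList, PosR]

theorem vanTerms_spec {k : ℕ} (hk : KClass K k) {r s : ℕ} (h : vanTermsB D k r s = true) :
    ∀ q ∈ D.commTerms r s, ((q.2.1 : ℤ) : K) = 0 := fun q hq => van_spec hk (List.all_eq_true.1 h q hq)

/-- `CenOK` -/
def centB (D : ChevalleyDatum) (k : ℕ) (Z : List ℕ) : Bool :=
  Z.all fun r => (posList D).contains r && (posList D).all fun s => vanTermsB D k r s

theorem cent_spec {k : ℕ} (hk : KClass K k) {Z : List ℕ} (h : centB D k Z = true) : CenOK D K Z := by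
  simp only [centB, List.all_eq_true, Bool.and_eq_true, List.contains_iff_mem] at h
  intro r hr
  obtain ⟨h1, h2⟩ := h r hr
  exact ⟨(mem_posList.1 h1).1, (mem_posList.1 h1).2, fun s hs hsp => vanTerms_spec hk (h2 s (mem_posList.2 ⟨hs, hsp⟩))⟩

/-- `WitOK` -/
def witB (D : ChevalleyDatum) (k : ℕ) (Z : List ℕ) : Bool :=
  (posList D).all fun r => Z.contains r || (posList D).any fun s => s != r && (D.commTerms r s).any fun q =>
    q.2.2.1 == 1 && q.2.2.2 == 1 && untB k q.2.1 && ((D.commTerms r s).filter fun p => p.1 == q.1) == [q]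

theorem wit_spec {k : ℕ} (hk : KClass K k) {Z : List ℕ} (h : witB D k Z = true) : WitOK D K Z := by
  simp only [witB, List.all_eq_true, Bool.or_eq_true, List.any_eq_true, Bool.and_eq_true, bne_iff_ne, ne_eq,
    beq_iff_eq, List.contains_iff_mem] at h
  intro r hr hrp hrZ
  obtain ⟨s, hs, hsr, q, hq, ⟨⟨h1, h2⟩, h3⟩, h4⟩ := (h r (mem_posList.2 ⟨hr, hrp⟩)).resolve_left hrZ
  exact ⟨s, (mem_posList.1 hs).1, (mem_posList.1 hs).2, hsr, q, hq, h1, h2, unt_spec hk h3, h4⟩

/-- `VanOK` -/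
def vanB' (D : ChevalleyDatum) (k r s : ℕ) : Bool :=
  decide (r < D.nroots) && decide (s < D.nroots) && s != D.neg r && vanTermsB D k r s

theorem vanOK_spec {k : ℕ} (hk : KClass K k) {r s : ℕ} (h : vanB' D k r s = true) : VanOK D K r s := by
  simp only [vanB', Bool.and_eq_true, decide_eq_true_eq, bne_iff_ne, ne_eq] at h
  exact ⟨h.1.1.1, h.1.1.2, h.1.2, vanTerms_spec hk h.2⟩

/-- `LeadOK` -/
def leadB (D : ChevalleyDatum) (k r s : ℕ) : Bool :=
  decide (r < D.nroots) && decide (s < D.nroots) && s != r && s != D.neg r &&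
    (D.commTerms r s).any fun q => q.2.2.1 == 1 && untB k q.2.1 && decide (D.nroots / 2 ≤ q.1) &&
      ((D.commTerms r s).filter fun p => p.1 == q.1) == [q] &&
      (D.commTerms r s).all fun p => p.1 == q.1 || decide (q.1 < p.1) || vanB k p.2.1

theorem lead_spec {k : ℕ} (hk : KClass K k) {r s : ℕ} (h : leadB D k r s = true) : LeadOK D K r s := by
  simp only [leadB, Bool.and_eq_true, decide_eq_true_eq, bne_iff_ne, ne_eq, List.any_eq_true, List.all_eq_true,
    Bool.or_eq_true, beq_iff_eq] at h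
  obtain ⟨⟨⟨⟨hr, hs⟩, hsr⟩, hneg⟩, ⟨v, C, i, j⟩, -, ⟨⟨⟨h1, h2⟩, h3⟩, h4⟩, h5⟩ := h
  simp only at h1; subst h1
  exact ⟨hr, hs, hsr, hneg, v, C, j, h4, h3, unt_spec hk h2, fun p hp hne => by
    rcases h5 p hp with (h | h) | h
    · exact absurd h hne
    · exact Or.inl h
    · exact Or.inr (van_spec hk h)⟩

/-- `SoleOK` -/
def soleB (D : ChevalleyDatum) (k a b v : ℕ) : Bool :=
  decide (a < D.nroots) && decide (b < D.nroots) && b != a && b != D.neg a &&
    ((D.commTerms a b).any fun q => q.1 == v && q.2.2.1 == 1 && q.2.2.2 == 1 && untB k q.2.1 &&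
      ((D.commTerms a b).filter fun p => p.1 == v) == [q]) &&
    (D.commTerms a b).all fun p => p.1 == v || vanB k p.2.1

theorem sole_spec {k : ℕ} (hk : KClass K k) {a b v : ℕ} (h : soleB D k a b v = true) : SoleOK D K a b v := by
  simp only [soleB, Bool.and_eq_true, decide_eq_true_eq, bne_iff_ne, ne_eq, List.any_eq_true, List.all_eq_true,
    Bool.or_eq_true, beq_iff_eq] at h
  obtain ⟨⟨⟨⟨⟨ha, hb⟩, hba⟩, hneg⟩, ⟨w, C, i, j⟩, -, ⟨⟨⟨h1, h2⟩, h3⟩, h4⟩, h5⟩, h6⟩ := h
  simp only at h1 h2 h3; subst h1; subst h2; subst h3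
  exact ⟨ha, hb, hba, hneg, C, unt_spec hk h4, h5, fun p hp hne => van_spec hk ((h6 p hp).resolve_left hne)⟩

/-- `EndOK` -/
def endB (D : ChevalleyDatum) (k : ℕ) (Z : List ℕ) (S : ℕ → Bool) (i₀ : ℕ) : Bool :=
  let top := D.nroots - 1
  Z.contains top && decide (top < D.nroots) && S top && S 0 &&
  ((List.range D.nroots).all fun s => !S s || (decide (s ≤ top) &&
    (List.range D.rank).all fun i => S (D.reflectRoot i s))) &&
  decide (i₀ < D.rank) && decide (D.nroots / 2 ≤ D.reflectRoot i₀ top) && D.reflectRoot i₀ top != top &&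
  (k == 2 || (List.range D.nroots).all fun r => decide (D.nroots / 2 ≤ r) || r == 0 || !S r ||
    vanTermsB D k top r || match D.commTerms top r with
      | [(v, C, i, j)] => i == 1 && j == 1 && decide (D.nroots / 2 ≤ v) && untB k C && v != r && r != D.neg v &&
          vanTermsB D k v r
      | _ => false) &&
  D.pairing top top == 2 &&
  ((posList D).all fun r => r == top || D.pairing top r == 0 || D.pairing top r == 1) &&
  ((posList D).all fun r => D.pairing top r != 0 || (r != 0 && r != D.neg 0 && vanTermsB D k r 0))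

theorem end_spec {k : ℕ} (hk : KClass K k) {Z : List ℕ} {S : ℕ → Bool} {i₀ : ℕ} (h : endB D k Z S i₀ = true) :
    EndOK D K Z S i₀ := by
  simp only [endB, Bool.and_eq_true, decide_eq_true_eq, List.all_eq_true, Bool.or_eq_true, List.mem_range,
    beq_iff_eq, bne_iff_ne, ne_eq, List.contains_iff_mem, Bool.not_eq_true'] at h
  obtain ⟨⟨⟨⟨⟨⟨⟨⟨⟨⟨⟨hZ, hlt⟩, hSt⟩, hS0⟩, horb⟩, hi⟩, hpv⟩, hne⟩, hno⟩, hp2⟩, hpp⟩, hlv⟩ := h
  refine
    { top_mem := hZ
      orbit := ⟨hlt, hSt, fun i hi s hs hSs => ?_, fun s hs hSs => ?_⟩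
      bot_mem := hS0
      step := ⟨hi, hpv, hne⟩
      nonopp := fun hodd r hr hrn hr0 hSr => ?_
      pairTop := hp2
      pairPos := fun r hr hrp hne' => ?_
      levi := fun r hr hrp h0 => ?_ }
  · rcases horb s hs with h | h
    · rw [hSs] at h; cases h
    · exact h.2 i hi
  · rcases horb s hs with h | h
    · rw [hSs] at h; cases h
    · exact h.1
  · rcases hno with hk2 | hno
    · exfalso
      rcases hk with ⟨-, hp⟩ | ⟨e, -⟩ | ⟨e, -⟩
      · exact one_ne_zero (hodd 1 (CharTwo.add_self_eq_zero 1))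
      · omega
      · omega
    rcases hno r hr with ((((h | h) | h) | h) | h)
    · omega
    · exact absurd h hr0
    · rw [hSr] at h; cases h
    · exact Or.inl (vanTerms_spec hk h)
    · right
      match hq : D.commTerms (D.nroots - 1) r with
      | [(v, C, i, j)] =>
        rw [hq] at h
        simp only [Bool.and_eq_true, decide_eq_true_eq, beq_iff_eq, bne_iff_ne, ne_eq] at h
        obtain ⟨⟨⟨⟨⟨⟨h1, h2⟩, h3⟩, h4⟩, h5⟩, h6⟩, h7⟩ := h
        exact ⟨v, C, by rw [h1, h2], h3, unt_spec hk h4, h5, h6, vanTerms_spec hk h7⟩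
      | [] => rw [hq] at h; cases h
      | _ :: _ :: _ => rw [hq] at h; cases h
  · rcases hpp r (mem_posList.2 ⟨hr, hrp⟩) with (h | h) | h
    · exact absurd h hne'
    · exact Or.inl h
    · exact Or.inr h
  · rcases hlv r (mem_posList.2 ⟨hr, hrp⟩) with h | h
    · exact absurd h0 h
    · exact ⟨h.1.1, h.1.2, vanTerms_spec hk h.2⟩

/-- `SplitOK` -/
def splitB (D : ChevalleyDatum) (k : ℕ) (S : ℕ → Bool) : Bool :=
  (List.range D.rank).any fun i => !S (D.simple i) ||
    (List.range D.rank).any fun j => i != j && D.simple j != D.neg (D.simple i) &&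
      vanTermsB D k (D.simple i) (D.simple j)

theorem split_spec {k : ℕ} (hk : KClass K k) {S : ℕ → Bool} (h : splitB D k S = true) : SplitOK D K S := by
  simp only [splitB, List.any_eq_true, List.mem_range, Bool.or_eq_true, Bool.and_eq_true, bne_iff_ne, ne_eq,
    Bool.not_eq_true'] at h
  obtain ⟨i, hi, h | ⟨j, hj, ⟨h1, h2⟩, h3⟩⟩ := h
  · exact Or.inl ⟨i, hi, h⟩
  · exact Or.inr ⟨i, hi, j, hj, h1, h2, vanTerms_spec hk h3⟩

/-- a word of fundamental reflections -/
def finWord (D : ChevalleyDatum) (L : List ℕ) : List (Fin D.rank) :=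
  L.filterMap fun i => if h : i < D.rank then some ⟨i, h⟩ else none

/-- the image of a root under a word -/
def reflWord (D : ChevalleyDatum) : List (Fin D.rank) → ℕ → ℕ
  | [], r => r
  | i :: L, r => D.reflectRoot i.val (reflWord D L r)

theorem reflWord_eq (hc : Checked D T) (L : List (Fin D.rank)) {r : ℕ} (hr : r < D.nroots) :
    reflWord D L r = sigs D T L r := by
  induction L with
  | nil => rfl
  | cons i L ih =>
    show D.reflectRoot i.val _ = _
    rw [ih, sigs_cons, reflectRoot_eq' hc i (sigs_lt hc L hr)]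

/-- a root whose coefficients form a ring and propagate to all roots: `(a, b)` the triangle, `l` the edges -/
def fieldB (D : ChevalleyDatum) (k r : ℕ) (La Lb L₀ : List ℕ) (i₁ : ℕ) (l : List (ℕ × ℕ)) : Bool :=
  decide (r < D.nroots) && soleB D k (reflWord D (finWord D La) r) (reflWord D (finWord D Lb) r) r &&
  reflWord D (finWord D L₀) r == D.simple i₁ && (List.range D.rank).all (fun i => (reachB [i₁] l).contains i) &&
  l.all fun e => decide (e.1 < D.rank) && decide (e.2 < D.rank) &&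
    (D.cartan e.1 (D.simple e.2) == -1 || (k != 5 && D.cartan e.1 (D.simple e.2) == -(k : ℤ)))

/-- only the edges and reachability -/
def pathB (D : ChevalleyDatum) (k r : ℕ) (L₀ : List ℕ) (i₁ : ℕ) (l : List (ℕ × ℕ)) : Bool :=
  decide (r < D.nroots) &&
  reflWord D (finWord D L₀) r == D.simple i₁ && (List.range D.rank).all (fun i => (reachB [i₁] l).contains i) &&
  l.all fun e => decide (e.1 < D.rank) && decide (e.2 < D.rank) &&
    (D.cartan e.1 (D.simple e.2) == -1 || (k != 5 && D.cartan e.1 (D.simple e.2) == -(k : ℤ)))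

/-- the conclusion: a field strictly above the fixed field serves all roots -/
def BigField (D : ChevalleyDatum) (K : Type*) [Field K] (σ : K →+* K) (H : Subgroup (GL D.Idx K)) : Prop :=
  ∃ L : Subfield K, Finite L ∧ (∀ a, σ a = a → a ∈ L) ∧ (∃ c ∈ L, σ c ≠ c) ∧
    ∀ s < D.nroots, ∀ a ∈ L, elX D K s a ∈ H

section
variable {σ : K →+* K} {H : Subgroup (GL D.Idx K)} {Z : List ℕ}
variable (hB : Base D T K Z) (hS : Setting D K σ H)
include hB hS

theorem bigField_of_mul {k : ℕ} (q : ℕ) [Fact q.Prime] [CharP K q] (hkq : k = q ∨ k = 5) {r : ℕ}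
    {L₀ : List ℕ} {i₁ : ℕ} {l : List (ℕ × ℕ)} (hp : pathB D k r L₀ i₁ l = true)
    (hmul : ∀ x y : K, elX D K r x ∈ H → elX D K r y ∈ H → elX D K r (x * y) ∈ H)
    {c : K} (hc' : σ c ≠ c) (hcH : elX D K r c ∈ H) : BigField D K σ H := by
  simp only [pathB, Bool.and_eq_true, decide_eq_true_eq, List.all_eq_true, List.mem_range, beq_iff_eq,
    List.contains_iff_mem, Bool.or_eq_true, bne_iff_ne, ne_eq] at hp
  obtain ⟨⟨⟨hr, hw⟩, hreach⟩, hl⟩ := hp
  obtain ⟨L, hL, hLmem⟩ := exists_coef_field hB hS hr hmul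
  haveI := hL
  refine ⟨L, hL, fun a ha => (hLmem a).2 (coef_fixed hB hS hr ha), ⟨c, (hLmem c).2 hcH, hc'⟩, ?_⟩
  refine coef_all hB hS q hr (finWord D L₀) (by rw [← reflWord_eq hB.checked _ hr]; exact hw) l (fun e he => ?_)
    hreach (fun a ha => (hLmem a).1 ha)
  obtain ⟨⟨h1, h2⟩, h3 | ⟨h4, h5⟩⟩ := hl e he
  · exact ⟨h1, h2, Or.inl h3⟩
  · exact ⟨h1, h2, Or.inr (by rw [h5]; rcases hkq with rfl | h6; exacts [rfl, absurd h6 h4])⟩

theorem bigField_of_fieldB {k : ℕ} (hk : KClass K k) (q : ℕ) [Fact q.Prime] [CharP K q] (hkq : k = q ∨ k = 5)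
    {r : ℕ} {La Lb L₀ : List ℕ} {i₁ : ℕ} {l : List (ℕ × ℕ)} (hp : fieldB D k r La Lb L₀ i₁ l = true)
    {c : K} (hc' : σ c ≠ c) (hcH : elX D K r c ∈ H) : BigField D K σ H := by
  simp only [fieldB, Bool.and_eq_true] at hp
  obtain ⟨⟨⟨⟨hr, hsole⟩, hw⟩, hreach⟩, hl⟩ := hp
  have hp' : pathB D k r L₀ i₁ l = true := by
    simp only [pathB, Bool.and_eq_true]
    exact ⟨⟨⟨hr, hw⟩, hreach⟩, hl⟩
  have hrn : r < D.nroots := of_decide_eq_true hr
  refine bigField_of_mul hB hS q hkq hp' (fun x y hx hy => ?_) hc' hcH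
  have hsp := sole_spec hk hsole
  rw [reflWord_eq hB.checked _ hrn, reflWord_eq hB.checked _ hrn] at hsp
  exact coef_mul hB hS hrn (finWord D La) (finWord D Lb) [] hsp hx hy

end

end CfsgLib.ChevCent.Over
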