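import Cfsg.Agent.Lib.ChevCent.Over.Coeff
import Cfsg.Agent.Lib.Chev.All

/-!
# Coefficients of the root elements in overgroups for type B2
-/

set_option autoImplicit false
set_option linter.unusedSectionVars false

namespace CfsgLib.ChevCent.Over

open Cfsg.Lie CfsgLib.Chev CfsgLib.ChevField

variable {K : Type*} [Field K]

/-- a finite additive group in characteristic two stable under the multipliers `x + x²` is closed under products -/
theorem mul_closed_of_artin [CharP K 2] (A : AddSubgroup K) [Finite A] (h1 : (1 : K) ∈ A)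
    (h : ∀ x y, x ∈ A → y ∈ A → (x + x * x) * y ∈ A) {x y : K} (hx : x ∈ A) (hy : y ∈ A) : x * y ∈ A := by
  classical
  let R : AddSubgroup K :=
    { carrier := {z | ∀ w ∈ A, z * w ∈ A}
      zero_mem' := fun w _ => by rw [zero_mul]; exact A.zero_mem
      add_mem' := fun {a b} ha hb w hw => by rw [add_mul]; exact A.add_mem (ha w hw) (hb w hw)
      neg_mem' := fun {a} ha w hw => by rw [neg_mul]; exact A.neg_mem (ha w hw) }
  have hRA : ∀ z ∈ R, z ∈ A := fun z hz => by simpa using hz 1 h1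
  have hR1 : (1 : K) ∈ R := fun w hw => by rwa [one_mul]
  have hN : ∀ z ∈ A, z + z * z ∈ R := fun z hz w hw => h z w hz hw
  haveI : Finite R := Finite.of_injective (fun z : R => (⟨z, hRA z z.2⟩ : A))
    fun a b e => Subtype.ext (congrArg (fun c : A => (c : K)) e)
  suffices x ∈ R from this y hy
  by_contra hxR
  -- two copies of `R` fit into `A`
  let g : R × R → A := fun s => ⟨s.1 + s.2 * x, A.add_mem (hRA _ s.1.2) (s.2.2 x hx)⟩
  have hg : Function.Injective g := by
    rintro ⟨a, b⟩ ⟨a', b'⟩ e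
    have e' : (a : K) + b * x = a' + b' * x := congrArg Subtype.val e
    by_cases hbb : b = b'
    · subst hbb; exact Prod.ext (Subtype.ext (add_right_cancel e')) rfl
    exfalso
    set d : R := b - b'
    have hd : (d : K) ≠ 0 := fun h0 => hbb (sub_eq_zero.1 (Subtype.ext h0 : d = 0))
    have hmul : ∀ u v : R, (u : K) * v ∈ R := fun u v w hw => by rw [mul_assoc]; exact u.2 _ (v.2 w hw)
    let m : R → R := fun u => ⟨(d : K) * u, hmul d u⟩
    have hm : Function.Injective m := fun u v e => Subtype.ext (mul_left_cancel₀ hd (congrArg Subtype.val e :))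
    obtain ⟨z, hz⟩ := Finite.surjective_of_injective hm (a' - a)
    have hz' : (d : K) * z = a' - a := congrArg Subtype.val hz
    refine hxR ?_
    have : (z : K) = x := mul_left_cancel₀ hd (by
      rw [hz', show (d : K) = b - b' from rfl, sub_mul]; linear_combination -e')
    exact this ▸ z.2
  -- at most two elements of `A` share an image in `R`
  have hfib : ∀ z w : K, z + z * z = w + w * w → z = w ∨ z = w + 1 := fun z w e => by
    have h0 : (z - w) * (z + w + 1) = 0 := by linear_combination e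
    rcases mul_eq_zero.1 h0 with h0 | h0
    · exact Or.inl (sub_eq_zero.1 h0)
    · exact Or.inr (by rw [CharTwo.add_eq_zero] at h0; rw [← h0]; linear_combination -(CharTwo.add_self_eq_zero w))
  have hle : Nat.card A ≤ 2 * Nat.card R := by
    letI := Fintype.ofFinite A
    letI := Fintype.ofFinite R
    rw [Nat.card_eq_fintype_card, Nat.card_eq_fintype_card]
    refine le_trans (Finset.card_le_mul_card_image (f := fun z : A => (⟨(z : K) + z * z, hN z z.2⟩ : R))
      Finset.univ 2 fun b hb => ?_) (Nat.mul_le_mul_left 2 (Finset.card_le_univ _))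
    · obtain ⟨w, -, hw⟩ := Finset.mem_image.1 hb
      refine le_trans (Finset.card_le_card (t := ({w, ⟨(w : K) + 1, A.add_mem w.2 h1⟩} : Finset A)) fun z hz => ?_)
        Finset.card_le_two
      have hz' := (Finset.mem_filter.1 hz).2
      rw [← hw] at hz'
      rcases hfib z w (congrArg Subtype.val hz') with e | e
      · exact Finset.mem_insert.2 (Or.inl (Subtype.ext e))
      · exact Finset.mem_insert.2 (Or.inr (Finset.mem_singleton.2 (Subtype.ext e)))
  have hsmall : Nat.card R ≤ 2 := by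
    have h2 := Nat.card_le_card_of_injective g hg
    rw [Nat.card_prod] at h2
    have hpos : 0 < Nat.card R := Nat.card_pos
    nlinarith
  have hRmem : ∀ z ∈ R, z = 0 ∨ z = 1 := by
    intro z hz
    by_contra hne
    push Not at hne
    letI := Fintype.ofFinite R
    have h3 : ({(0 : R), ⟨1, hR1⟩, ⟨z, hz⟩} : Finset R).card ≤ Nat.card R := by
      rw [Nat.card_eq_fintype_card]; exact Finset.card_le_univ _
    have h4 : ({(0 : R), ⟨1, hR1⟩, ⟨z, hz⟩} : Finset R).card = 3 := Finset.card_eq_three.2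
      ⟨0, ⟨1, hR1⟩, ⟨z, hz⟩, fun e => zero_ne_one (congrArg Subtype.val e :),
        fun e => hne.1 (congrArg Subtype.val e :).symm, fun e => hne.2 (congrArg Subtype.val e :).symm, rfl⟩
    omega
  have hx2 : x + x * x = 1 := by
    rcases hRmem _ (hN x hx) with e | e
    · exfalso
      have h0 : x * (x + 1) = 0 := by linear_combination e
      rcases mul_eq_zero.1 h0 with h0 | h0
      · exact hxR (h0 ▸ R.zero_mem)
      · rw [CharTwo.add_eq_zero] at h0; exact hxR (h0 ▸ hR1)
    · exact e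
  refine hxR fun w hw => ?_
  rcases hRmem _ (hN w hw) with e | e
  · rcases hfib w 0 (by rw [e, mul_zero, add_zero]) with e1 | e1
    · rw [e1, mul_zero]; exact A.zero_mem
    · rw [e1, zero_add, mul_one]; exact hx
  · rcases hfib w x (by rw [e, hx2]) with e1 | e1
    · rw [e1, show x * x = x + 1 by linear_combination hx2 - (CharTwo.add_self_eq_zero x)]
      exact A.add_mem hx h1
    · rw [e1, show x * (x + 1) = 1 by linear_combination hx2]
      exact h1

section
variable {T : Tabs} {σ : K →+* K} {H : Subgroup (GL chevB2.Idx K)} {Z : List ℕ}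
variable (hB : Base chevB2 T K Z) (hS : Setting chevB2 K σ H)
include hB hS

local notation "X" => elX chevB2 K

theorem b2_conj36 (t u : K) : X 3 t * X 6 u * (X 3 t)⁻¹ = X 6 u * (X 5 (t * u) * X 7 (t * u ^ 2)) := by
  rw [elX_conj_elX hB.checked hB.comm (r := 3) (s := 6) (by decide) (by decide) (by decide) (by decide)]
  have e : chevB2.commTerms 3 6 = [(5, 1, 1, 1), (7, 1, 1, 2)] := by decide +kernel
  simp [wordGL, ChevalleyDatum.commWord, e]

theorem b2_conj56 (t u : K) : X 5 t * X 6 u * (X 5 t)⁻¹ = X 6 u * X 7 (2 * (t * u)) := by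
  rw [elX_conj_elX hB.checked hB.comm (r := 5) (s := 6) (by decide) (by decide) (by decide) (by decide)]
  have e : chevB2.commTerms 5 6 = [(7, 2, 1, 1)] := by decide +kernel
  simp [wordGL, ChevalleyDatum.commWord, e, mul_assoc]

theorem b2_commute {r s : ℕ} (h : r < chevB2.nroots ∧ s < chevB2.nroots ∧ s ≠ chevB2.neg r ∧ chevB2.commTerms r s = [])
    (t u : K) : Commute (X r t) (X s u) :=
  commute_elX hB.checked hB.comm h.1 h.2.1 h.2.2.1 (by rw [h.2.2.2]; simp) t u

theorem b2_reflect (i : Fin chevB2.rank) {s v : ℕ} (hs : s < chevB2.nroots) (h : chevB2.reflectRoot i.val s = v) :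
    sig chevB2 T i s = v := by rw [← reflectRoot_eq' hB.checked i hs, h]

/-- long coefficients are short coefficients; squares of short coefficients are long -/
theorem b2_long_short : (∀ a, X 7 a ∈ H → X 5 a ∈ H) ∧
    (∀ t u, X 7 t ∈ H → X 5 u ∈ H → X 5 (t * u) * X 7 (t * u ^ 2) ∈ H) ∧
    ∀ a, X 5 a ∈ H → X 7 (a ^ 2) ∈ H := by
  have h73 : ∀ a, X 7 a ∈ H → X 3 a ∈ H := fun a ha => by
    have h1 := coef_sig hB hS (⟨0, by decide⟩ : Fin chevB2.rank) (s := 7) (by decide) ha
    rw [b2_reflect hB hS _ (v := 4) (by decide) (by decide +kernel)] at h1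
    have h2 := coef_sig hB hS (⟨1, by decide⟩ : Fin chevB2.rank) (s := 4) (by decide) h1
    rwa [b2_reflect hB hS _ (v := 3) (by decide) (by decide +kernel)] at h2
  have h56 : ∀ a, X 5 a ∈ H → X 6 a ∈ H := fun a ha => by
    have h1 := coef_sig hB hS (⟨1, by decide⟩ : Fin chevB2.rank) (s := 5) (by decide) ha
    rwa [b2_reflect hB hS _ (v := 6) (by decide) (by decide +kernel)] at h1
  have h1 : X 5 (1 : K) ∈ H := hS.root 5 (by decide) 1 (map_one σ)
  have h71 : X 7 (1 : K) ∈ H := hS.root 7 (by decide) 1 (map_one σ)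
  have key : ∀ t u, X 7 t ∈ H → X 5 u ∈ H → X 5 (t * u) * X 7 (t * u ^ 2) ∈ H := fun t u ht hu => by
    have h6 := h56 u hu
    have := mul_mem (inv_mem h6) (mul_mem (mul_mem (h73 t ht) h6) (inv_mem (h73 t ht)))
    rwa [b2_conj36 hB hS, inv_mul_cancel_left] at this
  have hls : ∀ a, X 7 a ∈ H → X 5 a ∈ H := fun a ha => by
    have h2 := mul_mem (key a 1 ha h1) (inv_mem (show X 7 a ∈ H from ha))
    rwa [mul_one, one_pow, mul_one, mul_inv_cancel_right] at h2
  refine ⟨hls, key, fun a ha => ?_⟩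
  have h2 := mul_mem (inv_mem ha) (key 1 a h71 ha)
  rwa [one_mul, one_mul, inv_mul_cancel_left] at h2

variable [CharP K 2]

/-- in characteristic two a pair at `5, 7` splits off a long root element -/
theorem b2_split {e f : K} (h : X 5 e * X 7 f ∈ H) : X 7 (e ^ 2 + f) ∈ H := by
  have hc := hB.checked
  have hneg : ∀ z : K, -z = z := CharTwo.neg_eq
  have h4 : X 4 (1 : K) ∈ H := hS.root 4 (by decide) 1 (map_one σ)
  have h1 := mul_mem (inv_mem h4) (mul_mem (mul_mem h h4) (inv_mem h))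
  have c74 := b2_commute hB hS (r := 7) (s := 4) ⟨by decide, by decide, by decide, by decide +kernel⟩ f 1
  have e1 : X 5 e * X 4 1 * (X 5 e)⁻¹ = X 4 1 * (X 6 e * X 7 (e ^ 2)) := by
    rw [elX_conj_elX hc hB.comm (r := 5) (s := 4) (by decide) (by decide) (by decide) (by decide)]
    have et : chevB2.commTerms 5 4 = [(6, -1, 1, 1), (7, -1, 2, 1)] := by decide +kernel
    simp [wordGL, ChevalleyDatum.commWord, et, hneg]
  rw [show X 5 e * X 7 f * X 4 1 * (X 5 e * X 7 f)⁻¹ = X 5 e * (X 7 f * X 4 1 * (X 7 f)⁻¹) * (X 5 e)⁻¹ by group,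
    c74.eq, mul_inv_cancel_right, e1, inv_mul_cancel_left] at h1
  set i : Fin chevB2.rank := ⟨1, by decide⟩
  have hn : elN chevB2 K (chevB2.simple i.val) 1 ∈ H := by
    have := monomial_mem hB hS [i]
    simpa [nProd] using this
  have h2 := mul_mem (mul_mem hn h1) (inv_mem hn)
  have e6 := nOne_conj_elX hc i (s := 6) (by decide) e
  have e7 := nOne_conj_elX hc i (s := 7) (by decide) (e ^ 2)
  rw [b2_reflect hB hS i (v := 5) (by decide) (by decide +kernel)] at e6
  rw [b2_reflect hB hS i (v := 7) (by decide) (by decide +kernel)] at e7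
  have he : ∀ s < chevB2.nroots, ∀ z : K, (eta chevB2 T i s : K) * z = z := fun s hs z => by
    rcases eta_cast hc (F := K) i hs with w | w <;> rw [w] <;> simp [hneg]
  rw [he 6 (by decide)] at e6
  rw [he 7 (by decide)] at e7
  set n := elN chevB2 K (chevB2.simple i.val) 1
  rw [show n * (X 6 e * X 7 (e ^ 2)) * n⁻¹ = (n * X 6 e * n⁻¹) * (n * X 7 (e ^ 2) * n⁻¹) by group, e6, e7] at h2
  have h3 := mul_mem (inv_mem h2) h
  rw [show (X 5 e * X 7 (e ^ 2))⁻¹ * (X 5 e * X 7 f) = (X 7 (e ^ 2))⁻¹ * X 7 f by group, elX_inv hc K (by decide),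
    elX_add hc K (by decide), hneg] at h3
  exact h3

omit [CharP K 2] in
/-- the long coefficients are closed under products -/
theorem b2_mul (q : ℕ) [Fact q.Prime] [CharP K q] {x y : K} (hx : X 7 x ∈ H) (hy : X 7 y ∈ H) : X 7 (x * y) ∈ H := by
  obtain ⟨hls, key, hsq⟩ := b2_long_short hB hS
  have hc := hB.checked
  haveI := coef_finite hB hS (s := 7) (by decide)
  by_cases h2 : (2 : K) = 0
  · haveI : CharP K 2 := CharTwo.of_one_ne_zero_of_two_eq_zero one_ne_zero h2
    haveI := coef_finite hB hS (s := 5) (by decide)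
    set A := coef hc H (s := 7) (by decide) with hA
    set A5 := coef hc H (s := 5) (by decide) with hA5
    have hinj : ∀ a b : K, a ^ 2 = b ^ 2 → a = b := fun a b e => frobenius_inj K 2 (by simpa [frobenius_def] using e)
    -- the squaring map is onto
    have hsurj : ∀ a ∈ A, ∃ b ∈ A, b ^ 2 = a := by
      let f : A → A := fun b => ⟨(b : K) ^ 2, hsq _ (hls _ b.2)⟩
      have hf : Function.Injective f := fun a b e => Subtype.ext (hinj _ _ (congrArg Subtype.val e))
      intro a ha
      obtain ⟨b, hb⟩ := Finite.surjective_of_injective hf ⟨a, ha⟩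
      exact ⟨b, b.2, congrArg Subtype.val hb⟩
    refine mul_closed_of_artin A (hS.root 7 (by decide) 1 (map_one σ)) (fun t w ht hw => ?_) hx hy
    obtain ⟨u, hu, rfl⟩ := hsurj w hw
    have h3 := b2_split hB hS (key t u ht (hls u hu))
    show X 7 _ ∈ H
    rwa [show (t + t * t) * u ^ 2 = (t * u) ^ 2 + t * u ^ 2 by ring]
  · set A := coef hc H (s := 7) (by decide)
    have hdouble : ∀ t u, X 7 t ∈ H → X 7 u ∈ H → X 7 (2 * (t * u)) ∈ H := fun t u ht hu => by
      have h56 := coef_sig hB hS (⟨1, by decide⟩ : Fin chevB2.rank) (s := 5) (by decide) (hls u hu)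
      rw [b2_reflect hB hS _ (v := 6) (by decide) (by decide +kernel)] at h56
      have := mul_mem (inv_mem h56) (mul_mem (mul_mem (hls t ht) h56) (inv_mem (hls t ht)))
      rwa [b2_conj56 hB hS, inv_mul_cancel_left] at this
    let f : A → A := fun b => ⟨(b : K) + b, A.add_mem b.2 b.2⟩
    have hf : Function.Injective f := fun a b e => Subtype.ext (mul_left_cancel₀ h2 (by
      rw [two_mul, two_mul]; exact congrArg Subtype.val e))
    obtain ⟨z, hz⟩ := Finite.surjective_of_injective hf ⟨2 * (x * y), hdouble x y hx hy⟩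
    have hz' : (z : K) = x * y := mul_left_cancel₀ h2 (by rw [two_mul]; exact congrArg Subtype.val hz)
    exact hz' ▸ z.2

/-- a central element with a coefficient outside the fixed field gives such a long root element -/
theorem b2_extract {a b : K} (hz : X 6 b * X 7 a ∈ H) (hnf : ¬ (σ b = b ∧ σ a = a)) :
    ∃ c, σ c ≠ c ∧ X 7 c ∈ H := by
  by_contra hall
  push Not at hall
  have hfix : ∀ c, X 7 c ∈ H → σ c = c := fun c hc' => by_contra fun hne => hall c hne hc'
  have hc := hB.checked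
  have hneg : ∀ z : K, -z = z := CharTwo.neg_eq
  set i0 : Fin chevB2.rank := ⟨0, by decide⟩
  set i1 : Fin chevB2.rank := ⟨1, by decide⟩
  have hX : ∀ s < chevB2.nroots, X s (1 : K) ∈ H := fun s hs => hS.root s hs 1 (map_one σ)
  -- images of pairs under the fundamental reflections
  have hpair : ∀ (i : Fin chevB2.rank) (r s r' s' : ℕ) (e f : K), r < chevB2.nroots → s < chevB2.nroots →
      chevB2.reflectRoot i.val r = r' → chevB2.reflectRoot i.val s = s' → X r e * X s f ∈ H →
      X r' e * X s' f ∈ H := by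
    intro i r s r' s' e f hr hs her hes h
    have hn : elN chevB2 K (chevB2.simple i.val) 1 ∈ H := by
      have := monomial_mem hB hS [i]
      simpa [nProd] using this
    set n := elN chevB2 K (chevB2.simple i.val) 1
    have h2 := mul_mem (mul_mem hn h) (inv_mem hn)
    rw [show n * (X r e * X s f) * n⁻¹ = (n * X r e * n⁻¹) * (n * X s f * n⁻¹) by group,
      nOne_conj_elX hc i hr, nOne_conj_elX hc i hs, b2_reflect hB hS i hr her, b2_reflect hB hS i hs hes] at h2
    have he : ∀ v < chevB2.nroots, ∀ z : K, (eta chevB2 T i v : K) * z = z := fun v hv z => by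
      rcases eta_cast hc (F := K) i hv with w | w <;> rw [w] <;> simp [hneg]
    rwa [he r hr, he s hs] at h2
  have hc73 := b2_commute hB hS (r := 7) (s := 3) ⟨by decide, by decide, by decide, by decide +kernel⟩
  have hc76 := b2_commute hB hS (r := 7) (s := 6) ⟨by decide, by decide, by decide, by decide +kernel⟩
  have hc75 := b2_commute hB hS (r := 7) (s := 5) ⟨by decide, by decide, by decide, by decide +kernel⟩
  have hc53 := b2_commute hB hS (r := 5) (s := 3) ⟨by decide, by decide, by decide, by decide +kernel⟩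
  -- the pairs
  have hP5 : X 5 b * X 7 (b ^ 2) ∈ H := by
    have h1 := mul_mem (inv_mem (hX 3 (by decide))) (mul_mem (mul_mem hz (hX 3 (by decide))) (inv_mem hz))
    have e1 : X 6 b * X 3 1 * (X 6 b)⁻¹ = X 3 1 * (X 5 b * X 7 (b ^ 2)) := by
      rw [elX_conj_elX hc hB.comm (r := 6) (s := 3) (by decide) (by decide) (by decide) (by decide)]
      have et : chevB2.commTerms 6 3 = [(5, -1, 1, 1), (7, 1, 2, 1)] := by decide +kernel
      simp [wordGL, ChevalleyDatum.commWord, et, hneg]
    rwa [show X 6 b * X 7 a * X 3 1 * (X 6 b * X 7 a)⁻¹ = X 6 b * (X 7 a * X 3 1 * (X 7 a)⁻¹) * (X 6 b)⁻¹ by group,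
      (hc73 a 1).eq, mul_inv_cancel_right, e1, inv_mul_cancel_left] at h1
  have hP6 : X 6 b * X 7 (b ^ 2) ∈ H :=
    hpair i1 5 7 6 7 b _ (by decide) (by decide) (by decide +kernel) (by decide +kernel) hP5
  have hab : σ (b ^ 2 + a) = b ^ 2 + a := by
    refine hfix _ ?_
    have h1 := mul_mem (inv_mem hP6) hz
    rwa [show (X 6 b * X 7 (b ^ 2))⁻¹ * (X 6 b * X 7 a) = (X 7 (b ^ 2))⁻¹ * X 7 a by group,
      elX_inv hc K (by decide), elX_add hc K (by decide), hneg] at h1
  have hP64 : X 6 b * X 4 (b ^ 2) ∈ H :=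
    hpair i0 6 7 6 4 b _ (by decide) (by decide) (by decide +kernel) (by decide +kernel) hP6
  have hP53 : X 5 b * X 3 (b ^ 2) ∈ H :=
    hpair i1 6 4 5 3 b _ (by decide) (by decide) (by decide +kernel) (by decide +kernel) hP64
  have hw2 : X 7 (b ^ 2) * X 3 (b ^ 2) ∈ H := by
    have h1 := mul_mem hP5 hP53
    have e : X 5 b * X 7 (b ^ 2) * (X 5 b * X 3 (b ^ 2)) = X 5 b * X 5 b * (X 7 (b ^ 2) * X 3 (b ^ 2)) := by
      rw [mul_assoc, ← mul_assoc (X 7 (b ^ 2)), (hc75 (b ^ 2) b).eq]; group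
    rwa [e, elX_add hc K (by decide), CharTwo.add_self_eq_zero, elX_zero hc K (by decide), one_mul] at h1
  have hcm : ∀ u f, X 6 u * X 7 f ∈ H → X 5 (b ^ 2 * u) * X 7 (b ^ 2 * u ^ 2) ∈ H := by
    intro u f h
    have h1 := mul_mem (inv_mem h) (mul_mem (mul_mem hw2 h) (inv_mem hw2))
    have e1 : X 7 (b ^ 2) * X 3 (b ^ 2) * (X 6 u * X 7 f) * (X 7 (b ^ 2) * X 3 (b ^ 2))⁻¹
        = (X 3 (b ^ 2) * X 6 u * (X 3 (b ^ 2))⁻¹) * X 7 f := by
      have c1 : ∀ g, Commute (X 7 (b ^ 2)) g → X 7 (b ^ 2) * g * (X 7 (b ^ 2))⁻¹ = g := fun g hg => by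
        rw [hg.eq, mul_inv_cancel_right]
      rw [show X 7 (b ^ 2) * X 3 (b ^ 2) * (X 6 u * X 7 f) * (X 7 (b ^ 2) * X 3 (b ^ 2))⁻¹
        = X 7 (b ^ 2) * (X 3 (b ^ 2) * X 6 u * (X 3 (b ^ 2))⁻¹ * (X 3 (b ^ 2) * X 7 f * (X 3 (b ^ 2))⁻¹))
            * (X 7 (b ^ 2))⁻¹ by group, ← (hc73 f (b ^ 2)).eq, mul_inv_cancel_right]
      exact c1 _ ((((hc73 _ _).mul_right (hc76 _ _)).mul_right (hc73 _ _).inv_right).mul_right
        (show Commute (X 7 (b ^ 2)) (X 7 f) by
          rw [Commute, SemiconjBy, elX_add hc K (by decide), elX_add hc K (by decide), add_comm]))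
    rw [e1, b2_conj36 hB hS] at h1
    have e2 : (X 6 u * X 7 f)⁻¹ * (X 6 u * (X 5 (b ^ 2 * u) * X 7 (b ^ 2 * u ^ 2)) * X 7 f)
        = X 5 (b ^ 2 * u) * X 7 (b ^ 2 * u ^ 2) := by
      rw [show (X 6 u * X 7 f)⁻¹ * (X 6 u * (X 5 (b ^ 2 * u) * X 7 (b ^ 2 * u ^ 2)) * X 7 f)
        = (X 7 f)⁻¹ * (X 5 (b ^ 2 * u) * X 7 (b ^ 2 * u ^ 2) * X 7 f) by group]
      have c5 : X 5 (b ^ 2 * u) * X 7 (b ^ 2 * u ^ 2) * X 7 f = X 7 f * (X 5 (b ^ 2 * u) * X 7 (b ^ 2 * u ^ 2)) := by
        rw [mul_assoc, elX_add hc K (by decide), ← mul_assoc (X 7 f), (hc75 f _).eq, mul_assoc (X 5 _),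
          elX_add hc K (by decide), add_comm]
      rw [c5, inv_mul_cancel_left]
    rwa [e2] at h1
  have hf1 : σ ((b ^ 2 + b) ^ 2) = (b ^ 2 + b) ^ 2 := by
    refine hfix _ ?_
    have := b2_split hB hS (hcm 1 0 (by rw [elX_zero hc K (by decide), mul_one]; exact hX 6 (by decide)))
    rwa [one_pow, mul_one, ← CharTwo.add_sq] at this
  have hf2 : σ ((b ^ 3 + b ^ 2) ^ 2) = (b ^ 3 + b ^ 2) ^ 2 := by
    refine hfix _ ?_
    have := b2_split hB hS (hcm b _ hP6)
    convert this using 2
    rw [CharTwo.add_sq]; ring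
  have hinj : ∀ u v : K, u ^ 2 = v ^ 2 → u = v := fun u v e => frobenius_inj K 2 (by simpa [frobenius_def] using e)
  rw [map_pow] at hf1 hf2
  have hg1 := hinj _ _ hf1
  have hg2 := hinj _ _ hf2
  have hbfix : σ b = b := by
    by_cases hf0 : b ^ 2 + b = 0
    · rcases mul_eq_zero.1 (show b * (b + 1) = 0 by linear_combination hf0) with h0 | h0
      · rw [h0, map_zero]
      · rw [CharTwo.add_eq_zero] at h0; rw [h0, map_one]
    · refine mul_right_cancel₀ hf0 ?_
      calc σ b * (b ^ 2 + b) = σ b * σ (b ^ 2 + b) := by rw [hg1]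
        _ = σ (b ^ 3 + b ^ 2) := by rw [← map_mul]; congr 1; ring
        _ = _ := by rw [hg2]; ring
  refine hnf ⟨hbfix, ?_⟩
  rw [map_add, map_pow, hbfix] at hab
  exact add_left_cancel hab

end

end CfsgLib.ChevCent.Over
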