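import Cfsg.Agent.Lib.ChevCent.Over.Checks

/-!
# The dichotomy for an overgroup, from the side conditions
-/

set_option autoImplicit false
set_option linter.unusedSectionVars false

namespace CfsgLib.ChevCent.Over

open Cfsg.Lie CfsgLib.Chev CfsgLib.ChevField

variable {D : ChevalleyDatum} {T : Tabs} {K : Type*} [Field K]

section
variable {σ : K →+* K} {H : Subgroup (GL D.Idx K)} {Z : List ℕ} {S : ℕ → Bool} {i₀ : ℕ}
variable (hB : Base D T K Z) (hS : Setting D K σ H)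
include hB hS

/-- the dichotomy from the two halves -/
theorem dichotomy_core (hEnd : EndOK D K Z S i₀) (q : ℕ) [Fact q.Prime] [CharP K q]
    (hsplit : q = 2 → SplitOK D K S)
    (hext : (∀ h ∈ H, h ∈ UP D K → glMap D σ h = h) → ExtOK D K σ H Z)
    (hA : ∀ t : ℕ → K, (∀ r, r ∉ Z → t r = 0) → uProd D K (rootsFrom D (PosR D) 0) t ∈ H →
      glMap D σ (uProd D K (rootsFrom D (PosR D) 0) t) ≠ uProd D K (rootsFrom D (PosR D) 0) t → BigField D K σ H) :
    (∀ h ∈ H, glMap D σ h = h) ∨ BigField D K σ H := by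
  by_cases hU : ∀ h ∈ H, h ∈ UP D K → glMap D σ h = h
  · left
    intro h hh
    by_cases h2 : q = 2
    · subst h2
      exact all_fixed_two hB hS hEnd hU (hext hU) (hsplit rfl) hh
    · exact all_fixed_odd hB hS hEnd hU (hext hU) q h2 hh
  · right
    push Not at hU
    obtain ⟨u, hu, huU, hnf⟩ := hU
    obtain ⟨t, ht, htH, htnf⟩ := exists_central_nonfixed hB hS q hu huU hnf
    exact hA t ht htH htnf

theorem uProd_one {r : ℕ} (hr : r < D.nroots) (hrp : PosR D r) (t : ℕ → K)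
    (h : ∀ j, j ≠ r → PosR D j → t j = 0) : uProd D K (rootsFrom D (PosR D) 0) t = elX D K r (t r) := by
  rw [uProd_skip hB.checked (le_of_lt hr) t (fun j hj hjp => h j (by omega) hjp), rootsFrom_eq_cons hr hrp, uProd,
    List.map_cons, List.prod_cons]
  have e := uProd_eq_one hB.checked (L := rootsFrom D (PosR D) (r + 1)) (K := K)
    (fun j hj => (mem_rootsFrom.1 hj).2.1) (t := t)
    (fun j hj => h j (by have := (mem_rootsFrom.1 hj).1; omega) (mem_rootsFrom.1 hj).2.2)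
  rw [show ((rootsFrom D (PosR D) (r + 1)).map fun j => elX D K j (t j)).prod = 1 from e, mul_one]

theorem lead_step (hU : ∀ h ∈ H, h ∈ UP D K → glMap D σ h = h) {r s : ℕ} (hl : LeadOK D K r s) {b : K}
    (h : elX D K r b * elX D K s 1 * (elX D K r b)⁻¹ ∈ H) : σ b = b :=
  lead_fixed hB.checked hB.comm σ hl fun w hw e =>
    hU w (e ▸ mul_mem (inv_mem (hS.root s hl.2.1 1 (map_one σ))) h) hw

/-- one central root -/
theorem ext_one (hU : ∀ h ∈ H, h ∈ UP D K → glMap D σ h = h) {r s₀ : ℕ} (hrZ : r ∈ Z) (hZ : ∀ x ∈ Z, x = r)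
    (hl : LeadOK D K r s₀) : ExtOK D K σ H Z := by
  intro t ht hconj
  have e := uProd_one hB hS hl.1 (hB.cen r hrZ).2.1 t (fun j hj _ => ht j fun hjZ => hj (hZ j hjZ))
  have hf := lead_step hB hS hU hl (b := t r) (by rw [← e]; exact hconj s₀ hl.2.1)
  rw [e, glMap_elX hB.checked σ hl.1, hf]

theorem uProd_pair {r₀ r : ℕ} (hr₀ : r₀ ∈ Z) (hr : r ∈ Z) (hne : r₀ ≠ r) (hZ : ∀ x ∈ Z, x = r₀ ∨ x = r)
    (t : ℕ → K) (ht : ∀ x, x ∉ Z → t x = 0) :
    uProd D K (rootsFrom D (PosR D) 0) t = elX D K r₀ (t r₀) * elX D K r (t r) := by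
  classical
  have hc := hB.checked
  obtain ⟨h1, h2, -⟩ := hB.cen r₀ hr₀
  obtain ⟨h3, h4, -⟩ := hB.cen r hr
  set R := rootsFrom D (PosR D) 0
  have e0 : uProd D K R (Pi.single r₀ (t r₀)) = elX D K r₀ (t r₀) := by
    rw [uProd_one hB hS h1 h2 _ (fun j hj _ => Pi.single_eq_of_ne hj _), Pi.single_eq_same]
  have e1 : uProd D K R (Pi.single r (t r)) = elX D K r (t r) := by
    rw [uProd_one hB hS h3 h4 _ (fun j hj _ => Pi.single_eq_of_ne hj _), Pi.single_eq_same]
  rw [← e0, ← e1, ← uProd_add_of_commute hc (fun j hj => (mem_rootsFrom.1 hj).2.1) _ _ fun a ha b hb => ?_]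
  · refine uProd_congr fun j _ => ?_
    by_cases ha : j = r₀
    · subst ha; rw [Pi.single_eq_same, Pi.single_eq_of_ne hne, add_zero]
    · by_cases hb : j = r
      · subst hb; rw [Pi.single_eq_same, Pi.single_eq_of_ne ha, zero_add]
      · rw [Pi.single_eq_of_ne ha, Pi.single_eq_of_ne hb, add_zero, ht j fun hj => (hZ j hj).elim ha hb]
  · by_cases har : a = r
    · subst har
      exact cen_commute hc hB.comm hB.cen hr
        (elX_mem_uGen (mem_rootsFrom.1 hb).2.1 (P := PosR D) (mem_rootsFrom.1 hb).2.2 _) _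
    · rw [Pi.single_eq_of_ne har, elX_zero hc K (mem_rootsFrom.1 ha).2.1]
      exact Commute.one_left _

/-- two central roots -/
theorem ext_two (hU : ∀ h ∈ H, h ∈ UP D K → glMap D σ h = h) {r₀ r s₀ s₁ : ℕ} (hr₀ : r₀ ∈ Z) (hr : r ∈ Z)
    (hne : r₀ ≠ r) (hZ : ∀ x ∈ Z, x = r₀ ∨ x = r) (hv : VanOK D K r s₁) (hl₁ : LeadOK D K r₀ s₁)
    (hl₀ : LeadOK D K r s₀) : ExtOK D K σ H Z := by
  intro t ht hconj
  have hc := hB.checked
  have e := uProd_pair hB hS hr₀ hr hne hZ t ht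
  rw [e] at hconj ⊢
  have hb : σ (t r₀) = t r₀ := by
    refine lead_step hB hS hU hl₁ ?_
    have h1 := hconj s₁ hl₁.2.1
    rwa [show elX D K r₀ (t r₀) * elX D K r (t r) * elX D K s₁ 1 * (elX D K r₀ (t r₀) * elX D K r (t r))⁻¹
      = elX D K r₀ (t r₀) * (elX D K r (t r) * elX D K s₁ 1 * (elX D K r (t r))⁻¹) * (elX D K r₀ (t r₀))⁻¹ by group,
      (van_commute hc hB.comm hv (t r) 1).eq, mul_inv_cancel_right] at h1
  have hx := hS.root r₀ hl₁.1 _ hb
  have ha : σ (t r) = t r := by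
    refine lead_step hB hS hU hl₀ ?_
    have h1 := mul_mem (mul_mem (inv_mem hx) (hconj s₀ hl₀.2.1)) hx
    convert h1 using 1
    group
  rw [map_mul, glMap_elX hc σ hl₁.1, glMap_elX hc σ hl₀.1, hb, ha]

end

end CfsgLib.ChevCent.Over
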