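import Cfsg.Agent.Lib.ChevCent.Over.Core
import Cfsg.Agent.Lib.ChevCent.Over.CoeffB2
import Cfsg.Agent.Lib.Chev.Comm

/-!
# Overgroups of the group over a subfield: the seven types
-/

set_option autoImplicit false
set_option linter.unusedSectionVars false
set_option maxHeartbeats 1000000

namespace CfsgLib.ChevCent.Over

open Cfsg.Lie CfsgLib.Chev CfsgLib.ChevField

variable {K : Type*} [Field K]

/-- the certificate for a single central root -/
structure OneCert where
  /-- the negative root separating the coefficient -/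
  s₀ : ℕ
  /-- the reflection moving the top root -/
  i₀ : ℕ
  /-- the long roots -/
  S : ℕ → Bool
  /-- the triangle words -/
  La : List ℕ
  /-- the triangle words -/
  Lb : List ℕ
  /-- the word to a fundamental root -/
  L₀ : List ℕ
  /-- that fundamental root -/
  i₁ : ℕ
  /-- the edges -/
  l : List (ℕ × ℕ)

/-- the checks other than the triangle -/
def oneBaseB (D : ChevalleyDatum) (k : ℕ) (C : OneCert) : Bool :=
  centB D k [D.nroots - 1] && witB D k [D.nroots - 1] && endB D k [D.nroots - 1] C.S C.i₀ &&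
    (k != 2 || splitB D k C.S) && leadB D k (D.nroots - 1) C.s₀

/-- the checks for a single central root -/
def oneB (D : ChevalleyDatum) (k : ℕ) (C : OneCert) : Bool :=
  oneBaseB D k C && fieldB D k (D.nroots - 1) C.La C.Lb C.L₀ C.i₁ C.l

theorem one_dichotomy_base {D : ChevalleyDatum} {T : Tabs} (hc : Checked D T) (hcomm : CommOne D T)
    (hlink : linkTest D = true) {k : ℕ} (hk : KClass K k) (q : ℕ) [Fact q.Prime] [CharP K q] (hkq : q = 2 → k = 2)
    {C : OneCert} (h : oneBaseB D k C = true) {σ : K →+* K} {H : Subgroup (GL D.Idx K)} (hS : Setting D K σ H)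
    (hfield : ∀ c, σ c ≠ c → elX D K (D.nroots - 1) c ∈ H → BigField D K σ H) :
    (∀ h ∈ H, glMap D σ h = h) ∨ BigField D K σ H := by
  simp only [oneBaseB, Bool.and_eq_true, Bool.or_eq_true, bne_iff_ne, ne_eq] at h
  obtain ⟨⟨⟨⟨h1, h2⟩, h3⟩, h4⟩, h5⟩ := h
  have hB : Base D T K [D.nroots - 1] := ⟨hc, hcomm, hlink, cent_spec hk h1, wit_spec hk h2⟩
  have hl := lead_spec hk h5
  refine dichotomy_core hB hS (end_spec hk h3) q (fun e => split_spec hk (h4.resolve_left (not_not.2 (hkq e))))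
    (fun hU => ext_one hB hS hU (List.mem_singleton_self _) (fun x hx => List.mem_singleton.1 hx) hl) ?_
  intro t ht htH htnf
  have e := uProd_one hB hS hl.1 (hB.cen _ (List.mem_singleton_self _)).2.1 t
    (fun j hj _ => ht j fun hjZ => hj (List.mem_singleton.1 hjZ))
  rw [e] at htH htnf
  exact hfield _ (fun e' => htnf (by rw [glMap_elX hc σ hl.1, e'])) htH

theorem one_dichotomy {D : ChevalleyDatum} {T : Tabs} (hc : Checked D T) (hcomm : CommOne D T)
    (hlink : linkTest D = true) {k : ℕ} (hk : KClass K k) (q : ℕ) [Fact q.Prime] [CharP K q] (hkq : k = q ∨ k = 5)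
    (hkq2 : q = 2 → k = 2) {C : OneCert} (h : oneB D k C = true) {σ : K →+* K} {H : Subgroup (GL D.Idx K)}
    (hS : Setting D K σ H) : (∀ h ∈ H, glMap D σ h = h) ∨ BigField D K σ H := by
  simp only [oneB, Bool.and_eq_true] at h
  have hb := h.1
  simp only [oneBaseB, Bool.and_eq_true] at hb
  refine one_dichotomy_base hc hcomm hlink hk q hkq2 h.1 hS fun c hc' hcH => ?_
  exact bigField_of_fieldB (Z := [D.nroots - 1]) ⟨hc, hcomm, hlink, cent_spec hk hb.1.1.1.1, wit_spec hk hb.1.1.1.2⟩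
    hS hk q hkq h.2 hc' hcH

/-- the certificate for two central roots -/
structure TwoCert extends OneCert where
  /-- the second central root -/
  r₀ : ℕ
  /-- the negative root separating its coefficient -/
  s₁ : ℕ

/-- the checks for two central roots, without the extraction -/
def twoBaseB (D : ChevalleyDatum) (k : ℕ) (C : TwoCert) : Bool :=
  centB D k [C.r₀, D.nroots - 1] && witB D k [C.r₀, D.nroots - 1] && endB D k [C.r₀, D.nroots - 1] C.S C.i₀ &&
    (k != 2 || splitB D k C.S) && leadB D k (D.nroots - 1) C.s₀ && leadB D k C.r₀ C.s₁ &&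
    vanB' D k (D.nroots - 1) C.s₁ && C.r₀ != D.nroots - 1

theorem two_dichotomy_base {D : ChevalleyDatum} {T : Tabs} (hc : Checked D T) (hcomm : CommOne D T)
    (hlink : linkTest D = true) {k : ℕ} (hk : KClass K k) (q : ℕ) [Fact q.Prime] [CharP K q] (hkq : q = 2 → k = 2)
    {C : TwoCert} (h : twoBaseB D k C = true) {σ : K →+* K} {H : Subgroup (GL D.Idx K)} (hS : Setting D K σ H)
    (hextract : ∀ (_ : Base D T K [C.r₀, D.nroots - 1]) (a b : K),
      elX D K C.r₀ b * elX D K (D.nroots - 1) a ∈ H → ¬ (σ b = b ∧ σ a = a) → BigField D K σ H) :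
    (∀ h ∈ H, glMap D σ h = h) ∨ BigField D K σ H := by
  simp only [twoBaseB, Bool.and_eq_true, Bool.or_eq_true, bne_iff_ne, ne_eq] at h
  obtain ⟨⟨⟨⟨⟨⟨⟨h1, h2⟩, h3⟩, h4⟩, h5⟩, h6⟩, h7⟩, h8⟩ := h
  have hB : Base D T K [C.r₀, D.nroots - 1] := ⟨hc, hcomm, hlink, cent_spec hk h1, wit_spec hk h2⟩
  have hl₀ := lead_spec hk h5
  have hl₁ := lead_spec hk h6
  have hr₀ : C.r₀ ∈ [C.r₀, D.nroots - 1] := List.mem_cons_self ..
  have hr : D.nroots - 1 ∈ [C.r₀, D.nroots - 1] := List.mem_cons_of_mem _ (List.mem_singleton_self _)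
  have hZ : ∀ x ∈ [C.r₀, D.nroots - 1], x = C.r₀ ∨ x = D.nroots - 1 := fun x hx => by simpa using hx
  refine dichotomy_core hB hS (end_spec hk h3) q (fun e => split_spec hk (h4.resolve_left (not_not.2 (hkq e))))
    (fun hU => ext_two hB hS hU hr₀ hr h8 hZ (vanOK_spec hk h7) hl₁ hl₀) ?_
  intro t ht htH htnf
  have e := uProd_pair hB hS hr₀ hr h8 hZ t ht
  rw [e] at htH htnf
  refine hextract hB _ _ htH fun hfix => htnf ?_
  rw [map_mul, glMap_elX hc σ hl₁.1, glMap_elX hc σ hl₀.1, hfix.1, hfix.2]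

/-- the checks with a single root extracted -/
def twoB (D : ChevalleyDatum) (k : ℕ) (C : TwoCert) (v : ℕ) (La Lb L₀ : List ℕ) (i₁ : ℕ) (l : List (ℕ × ℕ)) : Bool :=
  twoBaseB D k C && soleB D k C.r₀ C.s₁ v && fieldB D k (D.nroots - 1) C.La C.Lb C.L₀ C.i₁ C.l &&
    fieldB D k v La Lb L₀ i₁ l

theorem two_dichotomy {D : ChevalleyDatum} {T : Tabs} (hc : Checked D T) (hcomm : CommOne D T)
    (hlink : linkTest D = true) {k : ℕ} (hk : KClass K k) (q : ℕ) [Fact q.Prime] [CharP K q] (hkq : k = q)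
    {C : TwoCert} {v : ℕ} {La Lb L₀ : List ℕ} {i₁ : ℕ} {l : List (ℕ × ℕ)}
    (h : twoB D k C v La Lb L₀ i₁ l = true) {σ : K →+* K} {H : Subgroup (GL D.Idx K)}
    (hS : Setting D K σ H) : (∀ h ∈ H, glMap D σ h = h) ∨ BigField D K σ H := by
  simp only [twoB, Bool.and_eq_true] at h
  obtain ⟨⟨⟨h1, h2⟩, h3⟩, h4⟩ := h
  have hsole := sole_spec hk h2
  have hvan : VanOK D K (D.nroots - 1) C.s₁ := by
    simp only [twoBaseB, Bool.and_eq_true] at h1
    exact vanOK_spec hk h1.1.2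
  refine two_dichotomy_base hc hcomm hlink hk q (fun e => by rw [hkq, e]) h1 hS fun hB a b hz hnf => ?_
  obtain ⟨C', hC, hv, hconj⟩ := sole_conj hc hcomm hsole
  have hs := hS.root C.s₁ hsole.2.1 1 (map_one σ)
  have h5 : elX D K v ((C' : K) * b) ∈ H := by
    have h1 := mul_mem (inv_mem hs) (mul_mem (mul_mem hz hs) (inv_mem hz))
    rwa [show elX D K C.r₀ b * elX D K (D.nroots - 1) a * elX D K C.s₁ 1 * (elX D K C.r₀ b * elX D K (D.nroots - 1) a)⁻¹
      = elX D K C.r₀ b * (elX D K (D.nroots - 1) a * elX D K C.s₁ 1 * (elX D K (D.nroots - 1) a)⁻¹) *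
        (elX D K C.r₀ b)⁻¹ by group, (van_commute hc hcomm hvan a 1).eq, mul_inv_cancel_right, hconj,
      inv_mul_cancel_left, mul_one] at h1
  by_cases hb : σ b = b
  · refine bigField_of_fieldB hB hS hk q (Or.inl hkq) h3 (c := a) (fun ha => hnf ⟨hb, ha⟩) ?_
    have h6 := mul_mem (inv_mem (hS.root C.r₀ hsole.1 b hb)) hz
    rwa [inv_mul_cancel_left] at h6
  · refine bigField_of_fieldB hB hS hk q (Or.inl hkq) h4 (c := (C' : K) * b) (fun hh => hb ?_) h5
    rw [map_mul, map_intCast] at hh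
    exact mul_left_cancel₀ hC hh

/-- long roots of `G2` -/
def longG2 (s : ℕ) : Bool := [0, 1, 5, 6, 10, 11].contains s
/-- long roots of `B2` -/
def longB2 (s : ℕ) : Bool := [0, 3, 4, 7].contains s
/-- long roots of `F4` -/
def longF4 (s : ℕ) : Bool :=
  [47, 46, 45, 43, 32, 42, 31, 41, 26, 30, 24, 25, 23, 22, 21, 17, 16, 6, 5, 15, 4, 2, 1, 0].contains s

/-- certificate for `G2` -/
def certG2 : OneCert := ⟨5, 1, longG2, [1], [0, 1], [0, 1], 1, [(1, 0)]⟩
/-- certificate for `B2` -/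
def certB2 : OneCert := ⟨2, 0, longB2, [], [], [0], 1, [(1, 0)]⟩
/-- certificate for `D4` -/
def certD4 : OneCert := ⟨9, 1, fun _ => true, [1], [3, 2, 0, 1], [3, 2, 0, 1], 1, [(1, 0), (1, 2), (1, 3)]⟩
/-- certificate for `F4` -/
def certF4 : OneCert := ⟨23, 3, longF4, [3], [2, 1, 2, 0, 1, 2, 3], [2, 1, 2, 0, 1, 2, 3], 3, [(3, 2), (2, 1), (1, 0)]⟩
/-- certificate for `E6` -/
def certE6 : OneCert :=
  ⟨25, 1, fun _ => true, [1], [3, 4, 5, 2, 3, 4, 0, 2, 3, 1], [3, 4, 5, 2, 3, 4, 0, 2, 3, 1], 1,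
    [(1, 3), (3, 2), (2, 0), (3, 4), (4, 5)]⟩
/-- certificate for `E7` -/
def certE7 : OneCert :=
  ⟨32, 0, fun _ => true, [0], [2, 3, 4, 5, 6, 1, 3, 4, 5, 2, 3, 4, 1, 3, 2, 0],
    [2, 3, 4, 5, 6, 1, 3, 4, 5, 2, 3, 4, 1, 3, 2, 0], 0, [(0, 2), (2, 3), (3, 1), (3, 4), (4, 5), (5, 6)]⟩
/-- certificate for `E8` -/
def certE8 : OneCert :=
  ⟨119, 7, fun _ => true, [7], [6, 5, 4, 3, 2, 1, 3, 4, 5, 6, 0, 2, 3, 4, 5, 1, 3, 4, 2, 3, 0, 2, 1, 3, 4, 5, 6, 7],
    [6, 5, 4, 3, 2, 1, 3, 4, 5, 6, 0, 2, 3, 4, 5, 1, 3, 4, 2, 3, 0, 2, 1, 3, 4, 5, 6, 7], 7,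
    [(7, 6), (6, 5), (5, 4), (4, 3), (3, 2), (3, 1), (2, 0)]⟩

theorem checkG2_2 : oneB chevG2 2 certG2 = true := by decide +kernel
theorem checkG2_5 : oneB chevG2 5 certG2 = true := by decide +kernel
theorem checkG2_3 : twoB chevG2 3 ⟨certG2, 9, 4⟩ 8 [0] [0, 1] [1] 0 [(0, 1)] = true := by decide +kernel
theorem checkB2_2 : twoBaseB chevB2 2 ⟨certB2, 6, 3⟩ = true := by decide +kernel
theorem checkB2_3 : oneBaseB chevB2 3 certB2 = true := by decide +kernel
theorem checkB2_5 : oneBaseB chevB2 5 certB2 = true := by decide +kernel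
theorem pathB2_2 : pathB chevB2 2 7 [0] 1 [(1, 0)] = true := by decide +kernel
theorem pathB2_3 : pathB chevB2 3 7 [0] 1 [(1, 0)] = true := by decide +kernel
theorem pathB2_5 : pathB chevB2 5 7 [0] 1 [(1, 0)] = true := by decide +kernel
theorem checkD4_2 : oneB chevD4 2 certD4 = true := by decide +kernel
theorem checkD4_3 : oneB chevD4 3 certD4 = true := by decide +kernel
theorem checkD4_5 : oneB chevD4 5 certD4 = true := by decide +kernel
theorem checkF4_2 : twoB chevF4 2 ⟨certF4, 44, 10⟩ 36 [0] [1, 2, 3] [1, 2, 3] 0 [(0, 1), (1, 2), (2, 3)] = true := by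
  decide +kernel
theorem checkF4_3 : oneB chevF4 3 certF4 = true := by decide +kernel
theorem checkF4_5 : oneB chevF4 5 certF4 = true := by decide +kernel
theorem checkE6_2 : oneB chevE6 2 certE6 = true := by decide +kernel
theorem checkE6_3 : oneB chevE6 3 certE6 = true := by decide +kernel
theorem checkE6_5 : oneB chevE6 5 certE6 = true := by decide +kernel
theorem checkE7_2 : oneB chevE7 2 certE7 = true := by decide +kernel
theorem checkE7_3 : oneB chevE7 3 certE7 = true := by decide +kernel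
theorem checkE7_5 : oneB chevE7 5 certE7 = true := by decide +kernel
theorem checkE8_2 : oneB chevE8 2 certE8 = true := by decide +kernel
theorem checkE8_3 : oneB chevE8 3 certE8 = true := by decide +kernel
theorem checkE8_5 : oneB chevE8 5 certE8 = true := by decide +kernel

/-- a finite overgroup of the group over the fixed field is fixed or contains the group over a larger field -/
theorem dichotomy {D : ChevalleyDatum} (hD : D ∈ [chevG2, chevB2, chevD4, chevF4, chevE6, chevE7, chevE8])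
    (q : ℕ) [Fact q.Prime] [CharP K q] {σ : K →+* K} {H : Subgroup (GL D.Idx K)} (hS : Setting D K σ H) :
    (∀ h ∈ H, glMap D σ h = h) ∨ BigField D K σ H := by
  have hlink := linkTest_of_mem hD
  obtain ⟨T, hc, hcomm⟩ := exists_checked' hD
  have hq : (q = 2 ∧ KClass K 2) ∨ (q = 3 ∧ KClass K 3) ∨ (q ≠ 2 ∧ q ≠ 3 ∧ KClass K 5) := by
    by_cases h2 : q = 2
    · subst h2; exact Or.inl ⟨rfl, Or.inl ⟨rfl, inferInstance⟩⟩
    by_cases h3 : q = 3
    · subst h3; exact Or.inr (Or.inl ⟨rfl, Or.inr (Or.inl ⟨rfl, inferInstance⟩)⟩)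
    refine Or.inr (Or.inr ⟨h2, h3, Or.inr (Or.inr ⟨rfl, fun h => ?_, fun h => ?_⟩)⟩)
    · exact h2 ((Nat.prime_dvd_prime_iff_eq Fact.out Nat.prime_two).1
        ((CharP.cast_eq_zero_iff K q 2).1 (by exact_mod_cast h)))
    · exact h3 ((Nat.prime_dvd_prime_iff_eq Fact.out Nat.prime_three).1
        ((CharP.cast_eq_zero_iff K q 3).1 (by exact_mod_cast h)))
  simp only [List.mem_cons, List.not_mem_nil, or_false] at hD
  rcases hD with rfl | rfl | rfl | rfl | rfl | rfl | rfl
  · rcases hq with ⟨e, hk⟩ | ⟨e, hk⟩ | ⟨e, -, hk⟩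
    · exact one_dichotomy hc hcomm hlink hk q (Or.inl e.symm) (fun _ => rfl) checkG2_2 hS
    · exact two_dichotomy hc hcomm hlink hk q e.symm checkG2_3 hS
    · exact one_dichotomy hc hcomm hlink hk q (Or.inr rfl) (fun h => absurd h e) checkG2_5 hS
  · rcases hq with ⟨e, hk⟩ | ⟨e, hk⟩ | ⟨e, -, hk⟩
    · refine two_dichotomy_base hc hcomm hlink hk q (fun _ => rfl) checkB2_2 hS fun hB a b hz hnf => ?_
      subst e
      obtain ⟨c, hc', hcH⟩ := b2_extract hB hS hz hnf
      exact bigField_of_mul hB hS 2 (Or.inl rfl) pathB2_2 (fun x y => b2_mul hB hS 2) hc' hcH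
    · refine one_dichotomy_base hc hcomm hlink hk q (fun h => by omega) checkB2_3 hS fun c hc' hcH => ?_
      have hb := checkB2_3
      simp only [oneBaseB, Bool.and_eq_true] at hb
      have hB : Base chevB2 T K [chevB2.nroots - 1] :=
        ⟨hc, hcomm, hlink, cent_spec hk hb.1.1.1.1, wit_spec hk hb.1.1.1.2⟩
      exact bigField_of_mul hB hS q (Or.inl e.symm) pathB2_3 (fun x y => b2_mul hB hS q) hc' hcH
    · refine one_dichotomy_base hc hcomm hlink hk q (fun h => absurd h e) checkB2_5 hS fun c hc' hcH => ?_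
      have hb := checkB2_5
      simp only [oneBaseB, Bool.and_eq_true] at hb
      have hB : Base chevB2 T K [chevB2.nroots - 1] :=
        ⟨hc, hcomm, hlink, cent_spec hk hb.1.1.1.1, wit_spec hk hb.1.1.1.2⟩
      exact bigField_of_mul hB hS q (Or.inr rfl) pathB2_5 (fun x y => b2_mul hB hS q) hc' hcH
  · rcases hq with ⟨e, hk⟩ | ⟨e, hk⟩ | ⟨e, -, hk⟩
    · exact one_dichotomy hc hcomm hlink hk q (Or.inl e.symm) (fun _ => rfl) checkD4_2 hS
    · exact one_dichotomy hc hcomm hlink hk q (Or.inl e.symm) (fun h => by omega) checkD4_3 hS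
    · exact one_dichotomy hc hcomm hlink hk q (Or.inr rfl) (fun h => absurd h e) checkD4_5 hS
  · rcases hq with ⟨e, hk⟩ | ⟨e, hk⟩ | ⟨e, -, hk⟩
    · exact two_dichotomy hc hcomm hlink hk q e.symm checkF4_2 hS
    · exact one_dichotomy hc hcomm hlink hk q (Or.inl e.symm) (fun h => by omega) checkF4_3 hS
    · exact one_dichotomy hc hcomm hlink hk q (Or.inr rfl) (fun h => absurd h e) checkF4_5 hS
  · rcases hq with ⟨e, hk⟩ | ⟨e, hk⟩ | ⟨e, -, hk⟩
    · exact one_dichotomy hc hcomm hlink hk q (Or.inl e.symm) (fun _ => rfl) checkE6_2 hS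
    · exact one_dichotomy hc hcomm hlink hk q (Or.inl e.symm) (fun h => by omega) checkE6_3 hS
    · exact one_dichotomy hc hcomm hlink hk q (Or.inr rfl) (fun h => absurd h e) checkE6_5 hS
  · rcases hq with ⟨e, hk⟩ | ⟨e, hk⟩ | ⟨e, -, hk⟩
    · exact one_dichotomy hc hcomm hlink hk q (Or.inl e.symm) (fun _ => rfl) checkE7_2 hS
    · exact one_dichotomy hc hcomm hlink hk q (Or.inl e.symm) (fun h => by omega) checkE7_3 hS
    · exact one_dichotomy hc hcomm hlink hk q (Or.inr rfl) (fun h => absurd h e) checkE7_5 hS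
  · rcases hq with ⟨e, hk⟩ | ⟨e, hk⟩ | ⟨e, -, hk⟩
    · exact one_dichotomy hc hcomm hlink hk q (Or.inl e.symm) (fun _ => rfl) checkE8_2 hS
    · exact one_dichotomy hc hcomm hlink hk q (Or.inl e.symm) (fun h => by omega) checkE8_3 hS
    · exact one_dichotomy hc hcomm hlink hk q (Or.inr rfl) (fun h => absurd h e) checkE8_5 hS

end CfsgLib.ChevCent.Over
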