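import Cfsg.Agent.Lib.ChevCent.Over.Strong
import Cfsg.Agent.Lib.SteinbergTwo.Main

/-!
# Finite subgroups of SL(2) in odd characteristic meeting both unipotent groups contain diagonalisable elements
-/

set_option autoImplicit false

namespace CfsgLib.ChevCent.Over

open Matrix CfsgLib.SteinbergTwo
open scoped MatrixGroups

variable {K : Type*} [Field K]

theorem sl2_conj_one_zero (g : SL(2, K)) (b : K) :
    ((g * img K (true, b) * g⁻¹ : SL(2, K)) : Matrix (Fin 2) (Fin 2) K) 1 0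
      = -(b * (g : Matrix (Fin 2) (Fin 2) K) 1 0 ^ 2) := by
  simp [Matrix.SpecialLinearGroup.coe_inv, Matrix.adjugate_fin_two, Matrix.mul_apply, Fin.sum_univ_two, coe_img]
  ring

theorem sl2_eq_img {g : SL(2, K)} (h10 : (g : Matrix (Fin 2) (Fin 2) K) 1 0 = 0)
    (h00 : (g : Matrix (Fin 2) (Fin 2) K) 0 0 = 1) : g = img K (true, (g : Matrix (Fin 2) (Fin 2) K) 0 1) := by
  have hdet : (g : Matrix (Fin 2) (Fin 2) K).det = 1 := g.2
  rw [Matrix.det_fin_two, h10, h00, one_mul, mul_zero, sub_zero] at hdet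
  ext i j
  fin_cases i <;> fin_cases j <;> simp [coe_img, h10, h00, hdet]

theorem img_add (a b : K) : img K (true, a) * img K (true, b) = img K (true, a + b) := by
  ext i j
  fin_cases i <;> fin_cases j <;> simp [coe_img, Matrix.mul_apply, Fin.sum_univ_two, add_comm]

theorem img_pow (a : K) (n : ℕ) : img K (true, a) ^ n = img K (true, n * a) := by
  induction n with
  | zero => ext i j; fin_cases i <;> fin_cases j <;> simp [coe_img]
  | succ n ih => rw [pow_succ, ih, img_add, Nat.cast_succ, add_mul, one_mul]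

/-- in odd characteristic some upper triangular element of the group is not unipotent -/
theorem exists_torus_element (p : ℕ) [Fact p.Prime] [CharP K p] (hp2 : p ≠ 2) {W : Subgroup SL(2, K)} [Finite ↥W]
    (h1 : img K (true, (1 : K)) ∈ W) (hlow : ∃ g ∈ W, (g : Matrix (Fin 2) (Fin 2) K) 1 0 ≠ 0) :
    ∃ g ∈ W, (g : Matrix (Fin 2) (Fin 2) K) 1 0 = 0 ∧ (g : Matrix (Fin 2) (Fin 2) K) 0 0 ≠ 1 := by
  classical
  by_contra hcon
  push Not at hcon
  let e00 : SL(2, K) → K := fun g => (g : Matrix (Fin 2) (Fin 2) K) 0 0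
  let e10 : SL(2, K) → K := fun g => (g : Matrix (Fin 2) (Fin 2) K) 1 0
  have hup : ∀ g ∈ W, e10 g = 0 → ∃ b, g = img K (true, b) := fun g hg h => ⟨_, sl2_eq_img h (hcon g hg h)⟩
  let Z : Subgroup ↥W :=
    { carrier := {g | e10 g = 0}
      one_mem' := by simp [e10]
      mul_mem' := by
        intro a b ha hb
        obtain ⟨x, hx⟩ := hup a a.2 ha
        obtain ⟨y, hy⟩ := hup b b.2 hb
        show e10 _ = 0
        rw [Subgroup.coe_mul, hx, hy, img_add]
        simp [e10, coe_img]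
      inv_mem' := by
        intro a ha
        show e10 _ = 0
        simpa [e10, Matrix.SpecialLinearGroup.coe_inv, Matrix.adjugate_fin_two] using ha }
  let X : ↥W := ⟨img K (true, (1 : K)), h1⟩
  have hXZ : X ∈ Z := by show e10 _ = 0; simp [X, e10, coe_img]
  have hX1 : X ≠ 1 := fun h => by
    have := congrArg (fun g : ↥W => ((g : SL(2, K)) : Matrix (Fin 2) (Fin 2) K) 0 1) h
    simp [X, coe_img] at this
  have hZp : IsPGroup p ↥Z := by
    intro g
    obtain ⟨x, hx⟩ := hup _ g.1.2 g.2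
    refine ⟨1, Subtype.ext (Subtype.ext ?_)⟩
    rw [pow_one, SubgroupClass.coe_pow, SubgroupClass.coe_pow, hx, img_pow, CharP.cast_eq_zero, zero_mul]
    ext i j; fin_cases i <;> fin_cases j <;> simp [coe_img]
  have hNZ : ∀ g : ↥W, g * X * g⁻¹ ∈ Z → g ∈ Z := by
    intro g hg
    have h : e10 ((g : SL(2, K)) * img K (true, 1) * (g : SL(2, K))⁻¹) = 0 := hg
    simp only [e10, sl2_conj_one_zero, one_mul, neg_eq_zero] at h
    exact (pow_eq_zero_iff two_ne_zero).1 h
  let S : Sylow p ↥W := ⟨Z, hZp, fun {P} hP hZP => by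
    by_contra hne
    obtain ⟨g, -, hgZ, hgN⟩ := exists_normalizing hP hZP (Ne.symm hne)
    exact hgZ (hNZ g ((Subgroup.mem_normalizer_iff.1 hgN X).1 hXZ))⟩
  have hSN : Subgroup.normalizer ((S : Subgroup ↥W) : Set ↥W) ≤ Subgroup.centralizer (S : Set ↥W) := by
    intro g hg
    obtain ⟨x, hx⟩ := hup _ g.2 (hNZ g ((Subgroup.mem_normalizer_iff.1 hg X).1 hXZ))
    refine Subgroup.mem_centralizer_iff.2 fun z hz => ?_
    obtain ⟨y, hy⟩ := hup _ z.2 hz
    refine Subtype.ext ?_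
    rw [Subgroup.coe_mul, Subgroup.coe_mul, hx, hy, img_add, img_add, add_comm]
  set V := (MonoidHom.transferSylow S hSN).ker with hV
  have hcompl : Subgroup.IsComplement' V (S : Subgroup ↥W) := MonoidHom.ker_transferSylow_isComplement' S hSN
  have hpV : ¬ p ∣ Nat.card ↥V := MonoidHom.not_dvd_card_ker_transferSylow S hSN
  have hVne : V ≠ ⊥ := by
    intro h
    obtain ⟨g, hg, hg'⟩ := hlow
    have hZtop : (S : Subgroup ↥W) = ⊤ := by
      have := hcompl.sup_eq_top
      rwa [h, bot_sup_eq] at this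
    have : (⟨g, hg⟩ : ↥W) ∈ (S : Subgroup ↥W) := by rw [hZtop]; exact Subgroup.mem_top _
    exact hg' this
  obtain ⟨l, hl, hlV⟩ : ∃ l, l.Prime ∧ l ∣ Nat.card ↥V := by
    refine Nat.exists_prime_and_dvd fun h => hVne ?_
    exact Subgroup.eq_bot_of_card_eq V h
  haveI := Fact.mk hl
  obtain ⟨R₀⟩ : Nonempty (Sylow l ↥V) := inferInstance
  set R := (R₀ : Subgroup ↥V).map V.subtype
  have hfr : Subgroup.normalizer (R : Set ↥W) ⊔ V = ⊤ := Sylow.normalizer_sup_eq_top R₀
  have hpN : p ∣ Nat.card ↥(Subgroup.normalizer (R : Set ↥W)) := by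
    have h1 : V.index ∣ Nat.card ↥(Subgroup.normalizer (R : Set ↥W)) := by
      rw [← Subgroup.relIndex_top_right, ← hfr, sup_comm, Subgroup.relIndex_sup_left]
      exact Subgroup.relIndex_dvd_card _ _
    refine dvd_trans ?_ h1
    rw [hcompl.symm.index_eq_card]
    have hX : orderOf (⟨X, hXZ⟩ : ↥Z) = p := orderOf_eq_prime (Subtype.ext (Subtype.ext (by
      show (img K (true, (1 : K))) ^ p = 1
      rw [img_pow, CharP.cast_eq_zero, zero_mul]
      ext i j; fin_cases i <;> fin_cases j <;> simp [coe_img]))) (fun h => hX1 (congrArg Subtype.val h))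
    have hd := orderOf_dvd_natCard (⟨X, hXZ⟩ : ↥Z)
    rwa [hX] at hd
  obtain ⟨g, hg⟩ := exists_prime_orderOf_dvd_card' p hpN
  have hgo : orderOf (g : ↥W) = p := by rw [Subgroup.orderOf_coe]; exact hg
  obtain ⟨P, hP⟩ := (IsPGroup.of_card (n := 1) (by rw [Nat.card_zpowers, hgo, pow_one])
    : IsPGroup p ↥(Subgroup.zpowers (g : ↥W))).exists_le_sylow
  obtain ⟨w, hw⟩ := MulAction.exists_smul_eq ↥W P S
  have hxZ : w * g * w⁻¹ ∈ Z := by
    have h1 : (g : ↥W) ∈ (P : Subgroup ↥W) := hP (Subgroup.mem_zpowers _)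
    show _ ∈ (S : Subgroup ↥W)
    rw [← hw, Sylow.coe_subgroup_smul, Subgroup.mem_pointwise_smul_iff_inv_smul_mem]
    simpa [MulAut.smul_def, mul_assoc] using h1
  set x := w * (g : ↥W) * w⁻¹ with hxdef
  obtain ⟨β, hβ⟩ := hup _ x.2 hxZ
  have hβ0 : β ≠ 0 := by
    rintro rfl
    have hx1 : x = 1 := Subtype.ext (by rw [hβ]; ext i j; fin_cases i <;> fin_cases j <;> simp [coe_img])
    have hg1 : (g : ↥W) = 1 := conj_eq_one_iff.1 hx1
    rw [hg1, orderOf_one] at hgo
    exact (Fact.out : p.Prime).one_lt.ne hgo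
  -- a central element of a normalised Sylow subgroup of the complement
  set R' := R.map (MulAut.conj w).toMonoidHom
  have hR'p : IsPGroup l ↥R' := (R₀.2.map _).map _
  have hR'ne : R' ≠ ⊥ := by
    rw [Ne, Subgroup.map_eq_bot_iff_of_injective _ (MulAut.conj w).injective,
      Subgroup.map_eq_bot_iff_of_injective _ V.subtype_injective]
    exact R₀.ne_bot_of_dvd_card hlV
  haveI : Nontrivial ↥R' := (Subgroup.nontrivial_iff_ne_bot _).2 hR'ne
  obtain ⟨e, heC, he1⟩ := (Subgroup.center ↥R').nontrivial_iff_exists_ne_one.1 hR'p.center_nontrivial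
  have hxe : x * (e : ↥W) * x⁻¹ ∈ R' := by
    obtain ⟨r, hr, hre⟩ := e.2
    refine ⟨g * r * (g : ↥W)⁻¹, (Subgroup.mem_normalizer_iff.1 g.2 r).1 hr, ?_⟩
    rw [← hre, hxdef]
    simp only [MulEquiv.coe_toMonoidHom, MulAut.conj_apply]
    group
  have hcomm : x * (e : ↥W) * x⁻¹ * (e : ↥W) = (e : ↥W) * (x * (e : ↥W) * x⁻¹) :=
    congrArg Subtype.val (Subgroup.mem_center_iff.1 heC ⟨_, hxe⟩)
  have he10 : e10 (e : ↥W) = 0 := by
    have h := congrArg (fun y : ↥W => ((y : SL(2, K)) : Matrix (Fin 2) (Fin 2) K) 1 0) hcomm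
    simp [hβ, Matrix.SpecialLinearGroup.coe_inv, Matrix.adjugate_fin_two, Matrix.mul_apply, Fin.sum_univ_two,
      coe_img, Matrix.vecMul, dotProduct] at h
    have h2 : (2 : K) ≠ 0 := fun h0 => hp2 (by
      have h0' : ((2 : ℕ) : K) = 0 := by exact_mod_cast h0
      have := (CharP.cast_eq_zero_iff K p 2).1 h0'
      exact (Nat.prime_dvd_prime_iff_eq Fact.out Nat.prime_two).1 this)
    have h3 : (2 : K) * β * e10 (e : ↥W) ^ 2 = 0 := by simp only [e10]; linear_combination -h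
    exact (pow_eq_zero_iff two_ne_zero).1 ((mul_eq_zero.1 h3).resolve_left (mul_ne_zero h2 hβ0))
  -- it lies in both a `p`-group and a group of order prime to `p`
  have hev : (e : ↥W) ∈ V := by
    obtain ⟨r, ⟨r₀, -, rfl⟩, hre⟩ := e.2
    rw [← hre]
    exact (inferInstance : V.Normal).conj_mem _ r₀.2 w
  have hbot : (e : ↥W) ∈ (⊥ : Subgroup ↥W) :=
    hcompl.disjoint.le_bot ⟨hev, he10⟩
  exact he1 (Subtype.ext (Subgroup.mem_bot.1 hbot))

end CfsgLib.ChevCent.Over
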