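import Cfsg.Agent.Lib.ChevCent.Over.EndBase
import Cfsg.Agent.Lib.ChevCent.Over.SL2
import Cfsg.Agent.Lib.ChevSL2.Hom

/-!
# A finite overgroup with fixed unipotent part is fixed
-/

set_option autoImplicit false
set_option linter.unusedSectionVars false

namespace CfsgLib.ChevCent.Over

open Cfsg.Lie CfsgLib.Chev CfsgLib.ChevField CfsgLib.SteinbergTwo
open scoped MatrixGroups

variable {D : ChevalleyDatum} {T : Tabs} {K : Type*} [Field K]

/-- a second class of involutions: a short fundamental root or two commuting fundamental roots -/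
def SplitOK (D : ChevalleyDatum) (K : Type*) [Field K] (S : ℕ → Bool) : Prop :=
  (∃ i < D.rank, S (D.simple i) = false) ∨ ∃ i < D.rank, ∃ j < D.rank, i ≠ j ∧
    D.simple j ≠ D.neg (D.simple i) ∧ ∀ q ∈ D.commTerms (D.simple i) (D.simple j), ((q.2.1 : ℤ) : K) = 0

section
variable {σ : K →+* K} {H : Subgroup (GL D.Idx K)} {Z : List ℕ} {S : ℕ → Bool} {i₀ : ℕ}
variable (hB : Base D T K Z) (hS : Setting D K σ H) (hEnd : EndOK D K Z S i₀)
variable (hU : ∀ h ∈ H, h ∈ UP D K → glMap D σ h = h) (hE : ExtOK D K σ H Z)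
include hB hS hEnd hU hE

/-- odd characteristic -/
theorem all_fixed_odd (p : ℕ) [Fact p.Prime] [CharP K p] (hp2 : p ≠ 2) {h : GL D.Idx K} (hh : h ∈ H) :
    glMap D σ h = h := by
  classical
  have h2 : (2 : K) ≠ 0 := fun h0 => hp2 (by
    have h0' : ((2 : ℕ) : K) = 0 := by exact_mod_cast h0
    exact (Nat.prime_dvd_prime_iff_eq Fact.out Nat.prime_two).1 ((CharP.cast_eq_zero_iff K p 2).1 h0'))
  have hodd : ∀ z : K, z + z = 0 → z = 0 := fun z hz => by
    rw [← two_mul] at hz; exact (mul_eq_zero.1 hz).resolve_left h2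
  by_contra hnf
  have hc := hB.checked
  have hcomm := hB.comm
  haveI := hS.finite
  obtain ⟨ht, htp, hnt, h0n, -⟩ := top_spec hc hEnd.orbit
  set top := topR D
  obtain ⟨u, hu, r, hr, hrS, c, hc0, hconj⟩ := conj_top hB hEnd (hS.le_group hh)
  have hr0 : r = 0 := by
    by_contra hr0
    exact hnf (fixed_of_conj hB hS hEnd hU hE p hodd hh hu hr hrS hr0 (mul_ne_zero hc0 one_ne_zero) (hconj 1))
  subst hr0
  obtain ⟨φ, -, hφ⟩ := ChevSL2.exists_hom hc (F := K) ht
  have hφt : ∀ a, φ (img K (true, a)) = elX D K top a := fun a => by rw [hφ]; rfl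
  have hφf : ∀ a, φ (img K (false, a)) = elX D K 0 a := fun a => by
    rw [hφ, ChevSL2.rootPair, if_neg Bool.false_ne_true, hnt]
  -- the finite subgroup of SL(2)
  set ψ : SL(2, K) →* GL D.Idx K := (MulAut.conj u).toMonoidHom.comp φ
  have hψ : ∀ g, ψ g = u * φ g * u⁻¹ := fun g => rfl
  let gens : Set SL(2, K) := {g | (∃ a, σ a = a ∧ g = img K (true, a)) ∨ ∃ a, σ a = a ∧ g = img K (false, c * a)}
  set W := Subgroup.closure gens
  have huz : ∀ a, u * elX D K top a = elX D K top a * u := fun a =>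
    (cen_commute hc hcomm hB.cen hEnd.top_mem hu a).eq.symm
  have hψW : ∀ g ∈ W, ψ g ∈ H := by
    intro g hg
    refine (Subgroup.closure_le (K := H.comap ψ)).2 ?_ hg
    rintro x (⟨a, ha, rfl⟩ | ⟨a, ha, rfl⟩) <;> rw [SetLike.mem_coe, Subgroup.mem_comap, hψ]
    · rw [hφt, huz, mul_inv_cancel_right]
      exact hS.root _ ht a ha
    · rw [hφf, ← hconj a]
      exact mul_mem (mul_mem hh (hS.root _ ht a ha)) (inv_mem hh)
  -- small kernel
  have hker : ∀ g, φ g = 1 → (g : Matrix (Fin 2) (Fin 2) K) 1 0 = 0 ∧ (g : Matrix (Fin 2) (Fin 2) K) 0 1 = 0 ∧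
      (g : Matrix (Fin 2) (Fin 2) K) 0 0 * (g : Matrix (Fin 2) (Fin 2) K) 0 0 = 1 ∧
      (g : Matrix (Fin 2) (Fin 2) K) 1 1 = (g : Matrix (Fin 2) (Fin 2) K) 0 0 := by
    intro g hg
    have hdet : (g : Matrix (Fin 2) (Fin 2) K).det = 1 := g.2
    rw [Matrix.det_fin_two] at hdet
    set α := (g : Matrix (Fin 2) (Fin 2) K) 0 0
    set β := (g : Matrix (Fin 2) (Fin 2) K) 0 1
    set γ := (g : Matrix (Fin 2) (Fin 2) K) 1 0
    set δ := (g : Matrix (Fin 2) (Fin 2) K) 1 1
    have hγ : γ = 0 := by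
      by_contra hγ
      set g' := img K (true, -α / γ) * g * img K (true, -δ / γ)
      have hg' : (g' : Matrix (Fin 2) (Fin 2) K) = !![0, -γ⁻¹; γ, 0] := by
        ext i j
        fin_cases i <;> fin_cases j <;>
          simp [g', Matrix.mul_apply, Fin.sum_univ_two, coe_img, Matrix.vecMul, dotProduct, α, β, γ, δ] <;>
          first
            | linear_combination (-α) * (mul_inv_cancel₀ hγ)
            | linear_combination (α * δ * γ⁻¹ - β) * (mul_inv_cancel₀ hγ) - γ⁻¹ * hdet
            | linear_combination (-δ) * (mul_inv_cancel₀ hγ)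
      have e : g' * img K (true, 1) * g'⁻¹ = img K (false, -(γ * γ)) := by
        ext i j
        fin_cases i <;> fin_cases j <;>
          simp [Matrix.SpecialLinearGroup.coe_inv, Matrix.adjugate_fin_two, hg', coe_img, hγ]
      have e2 := congrArg φ e
      rw [map_mul, map_mul, map_inv, hφf, show φ g' = elX D K top (-α / γ + -δ / γ) by
        simp only [g', map_mul, hg, mul_one, hφt, elX_add hc K ht], hφt, elX_inv hc K ht, elX_add hc K ht,
        elX_add hc K ht] at e2
      refine elX_not_mem_borel hc h0n (t := -(γ * γ)) (by have := nroots_eq_two_mul hc; omega)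
        (neg_ne_zero.2 (mul_ne_zero hγ hγ)) ?_
      rw [← e2]; exact elX_mem_borel hc ht htp _
    have hαδ : α * δ = 1 := by rw [hγ, mul_zero, sub_zero] at hdet; exact hdet
    have e : g * img K (true, 1) * g⁻¹ = img K (true, α * α) := by
      have hγ' : (g : Matrix (Fin 2) (Fin 2) K) 1 0 = 0 := hγ
      ext i j
      fin_cases i <;> fin_cases j <;>
        simp [Matrix.SpecialLinearGroup.coe_inv, Matrix.adjugate_fin_two, Matrix.mul_apply, Fin.sum_univ_two,
          coe_img, Matrix.vecMul, dotProduct, hγ', α, δ] <;>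
        first | linear_combination hαδ | ring
    have e2 := congrArg φ e
    rw [map_mul, map_mul, map_inv, hg, one_mul, inv_one, mul_one, hφt, hφt] at e2
    have hα : α * α = 1 := by
      have h3 : elX D K top (1 - α * α) = 1 := by
        rw [sub_eq_add_neg, ← elX_add hc K ht, ← elX_inv hc K ht, ← e2, mul_inv_cancel]
      exact (sub_eq_zero.1 ((elX_eq_one_iff hc ht _).1 h3)).symm
    have hδ : δ = α := by linear_combination α * hαδ - δ * hα
    have e3 : g * g = img K (true, α * β + β * δ) := by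
      have hγ' : (g : Matrix (Fin 2) (Fin 2) K) 1 0 = 0 := hγ
      ext i j
      fin_cases i <;> fin_cases j <;>
        simp [Matrix.mul_apply, Fin.sum_univ_two, coe_img, hγ', α, β, δ] <;>
        first | linear_combination hα | linear_combination hα + (δ + α) * hδ | ring
    have e4 := congrArg φ e3
    rw [map_mul, hg, mul_one, hφt] at e4
    have h5 := (elX_eq_one_iff hc ht _).1 e4.symm
    rw [hδ] at h5
    have h6 : (2 * α) * β = 0 := by linear_combination h5
    exact ⟨hγ, (mul_eq_zero.1 h6).resolve_left (mul_ne_zero h2 (left_ne_zero_of_mul_eq_one hα)), hα, hδ⟩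
  haveI : Finite ↥W := by
    let f : ↥W →* ↥H := (ψ.comp W.subtype).codRestrict H fun g => hψW g g.2
    haveI : Finite ↥f.ker := by
      let ev : ↥f.ker → K := fun g => (((g : ↥W) : SL(2, K)) : Matrix (Fin 2) (Fin 2) K) 0 0
      have hk : ∀ g : ↥f.ker, φ ((g : ↥W) : SL(2, K)) = 1 := fun g => by
        have h1 : f (g : ↥W) = 1 := g.2
        have h2 : u * φ ((g : ↥W) : SL(2, K)) * u⁻¹ = 1 := congrArg Subtype.val h1
        exact conj_eq_one_iff.1 h2
      have hsub : ∀ g, ev g ∈ ({1, -1} : Set K) := fun g => by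
        rcases mul_self_eq_one_iff.1 (hker _ (hk g)).2.2.1 with h | h
        · exact Or.inl h
        · exact Or.inr h
      haveI : Finite ({1, -1} : Set K) := Set.toFinite _
      refine Finite.of_injective (fun g => (⟨ev g, hsub g⟩ : ({1, -1} : Set K))) fun a b hab => ?_
      obtain ⟨a1, a2, -, a4⟩ := hker _ (hk a)
      obtain ⟨b1, b2, -, b4⟩ := hker _ (hk b)
      have h00 : ev a = ev b := congrArg Subtype.val hab
      refine Subtype.ext (Subtype.ext (Matrix.SpecialLinearGroup.ext _ _ fun i j => ?_))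
      fin_cases i <;> fin_cases j <;> simp only [Fin.zero_eta, Fin.mk_one, a1, a2, a4, b1, b2, b4] <;> exact h00
    haveI : Finite (↥W ⧸ f.ker) := Finite.of_equiv _ (QuotientGroup.quotientKerEquivRange f).symm.toEquiv
    refine Nat.finite_of_card_ne_zero ?_
    rw [Subgroup.card_eq_card_quotient_mul_card_subgroup f.ker]
    exact mul_ne_zero Nat.card_pos.ne' Nat.card_pos.ne'
  obtain ⟨g, hgW, hg10, hg00⟩ := exists_torus_element p hp2 (W := W)
    (Subgroup.subset_closure (Or.inl ⟨1, map_one σ, rfl⟩))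
    ⟨img K (false, c * 1), Subgroup.subset_closure (Or.inr ⟨1, map_one σ, rfl⟩), by simp [coe_img, hc0]⟩
  have hdet : (g : Matrix (Fin 2) (Fin 2) K).det = 1 := g.2
  rw [Matrix.det_fin_two, hg10, mul_zero, sub_zero] at hdet
  set lu : Kˣ := Units.mk0 _ (left_ne_zero_of_mul_eq_one hdet) with hlu
  have hluv : (lu : K) = (g : Matrix (Fin 2) (Fin 2) K) 0 0 := rfl
  set e := (g : Matrix (Fin 2) (Fin 2) K) 0 1 * (lu : K)
  set χ := corChar D T top lu
  set t₀ := torus D T K χ with ht₀
  have hφg : φ g = elX D K top e * t₀ := by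
    have hD : ((hWord (fun b t => img K (b, t)) (lu : K) : SL(2, K)) : Matrix (Fin 2) (Fin 2) K) =
        !![(lu : K), 0; 0, (lu : K)⁻¹] := by
      rw [hWord, Matrix.SpecialLinearGroup.coe_mul, img_wWord K true lu.ne_zero,
        img_wWord K true (neg_ne_zero.2 (one_ne_zero (α := K)))]
      simp
    have hg : g = img K (true, e) * hWord (fun b t => img K (b, t)) (lu : K) := by
      refine Matrix.SpecialLinearGroup.ext _ _ fun i j => ?_
      rw [Matrix.SpecialLinearGroup.coe_mul, hD]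
      have h11 : (g : Matrix (Fin 2) (Fin 2) K) 1 1 = (lu : K)⁻¹ := eq_inv_of_mul_eq_one_right (by rw [hluv]; exact hdet)
      fin_cases i <;> fin_cases j <;>
        simp [Matrix.mul_apply, Fin.sum_univ_two, coe_img, hg10, h11, e, hluv]
      rw [mul_assoc, mul_inv_cancel₀ (left_ne_zero_of_mul_eq_one hdet), mul_one]
    rw [hg, map_mul, hφt, ht₀, ← ChevSL2.hWord_rootPair hc ht]
    simp [hWord, wWord, hφ]
  have hchi : ∀ s, s < D.nroots → (chi χ (rv D T s) : K) = (lu : K) ^ D.pairing top s := fun s hs => by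
    rw [chi_corChar hc hs, pairing_eq hc _ ht, Units.val_zpow_eq_zpow_val]
  have hl1 : (lu : K) ≠ 1 := by rw [hluv]; exact hg00
  -- the image is fixed
  set j := ψ g with hjdef
  have hjH : j ∈ H := hψW g hgW
  obtain ⟨hz1, hz2, hz3, hz4⟩ := topOne hB hS hEnd hU hE
  have htz : ∀ a, t₀ * elX D K top a * t₀⁻¹ = elX D K top ((chi χ (rv D T top) : K) * a) := fun a =>
    torus_conj_elX hc χ ht a
  have hjfix : glMap D σ j = j := by
    refine fixed_of_strong hB hS hEnd hU hE p hz1 hz3 hz4 hjH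
      (hU _ (mul_mem (mul_mem hjH hz1) (inv_mem hjH)) ?_)
    have e1 : j * elX D K top 1 * j⁻¹ = elX D K top ((chi χ (rv D T top) : K) * 1) := by
      rw [hjdef, hψ, hφg]
      calc u * (elX D K top e * t₀) * u⁻¹ * elX D K top 1 * (u * (elX D K top e * t₀) * u⁻¹)⁻¹
          = u * elX D K top e * t₀ * (u⁻¹ * (elX D K top 1 * u)) * t₀⁻¹ * (elX D K top e)⁻¹ * u⁻¹ := by group
        _ = u * elX D K top e * (t₀ * elX D K top 1 * t₀⁻¹) * (elX D K top e)⁻¹ * u⁻¹ := by rw [← huz]; group
        _ = _ := by rw [htz, elX_inv hc K ht, mul_assoc u, mul_assoc u, elX_add hc K ht, elX_add hc K ht,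
              add_assoc, add_comm _ (-e), add_neg_cancel_left, huz, mul_inv_cancel_right]
    rw [e1]
    exact elX_mem_uGen ht (P := PosR D) htp _
  -- split off the Levi part
  set Q : ℕ → Prop := fun s => PosR D s ∧ D.pairing top s ≠ 0
  have hpp : ∀ s, s < D.nroots → PosR D s → 0 ≤ D.pairing top s := fun s hs hsp => by
    by_cases hst : s = top
    · rw [hst, hEnd.pairTop]; norm_num
    · rcases hEnd.pairPos s hs hsp hst with h | h <;> simp only [top] <;> omega
  have hQc : ClosedPos D T Q := by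
    refine ⟨fun s _ h => h.1, fun a b v ha hb h1 h2 hv => ⟨(closedPos_pos hc).2 a b v ha hb h1.1 h2.1 hv, ?_⟩⟩
    obtain ⟨hvn, i, k, hi, hk, ev⟩ := hv
    rw [pairing_comb hc ht ha hb hvn ev]
    have := hpp a ha h1.1; have := hpp b hb h2.1; have : D.pairing top a ≠ 0 := h1.2; have : D.pairing top b ≠ 0 := h2.2
    have hi' : (1 : ℤ) ≤ (i : ℤ) := by exact_mod_cast hi
    have hk' : (1 : ℤ) ≤ (k : ℤ) := by exact_mod_cast hk
    intro h0
    have hA : (1 : ℤ) ≤ D.pairing top a := by omega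
    have hB' : (1 : ℤ) ≤ D.pairing top b := by omega
    nlinarith
  obtain ⟨a, ha, l, hl, hual⟩ := uGen_split hc hcomm (closedPos_pos hc) (Q := Q)
    (R := fun s => PosR D s ∧ D.pairing top s = 0)
    (fun s _ hsp => by by_cases h : D.pairing top s = 0; exacts [Or.inr ⟨hsp, h⟩, Or.inl ⟨hsp, h⟩]) hu
  have hl0 : ∀ b, Commute l (elX D K 0 b) := by
    intro b
    have hle : uGen D K (fun s => PosR D s ∧ D.pairing top s = 0) ≤ Subgroup.centralizer {elX D K 0 b} :=
      uGen_le_iff.2 fun s hs h y => Subgroup.mem_centralizer_singleton_iff.2 (by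
        obtain ⟨-, hs2, hs3⟩ := hEnd.levi s hs h.1 h.2
        exact commute_elX hc hcomm hs h0n (fun e0 => hs2 (by rw [e0, neg_neg_root hc hs])) hs3 y b)
    exact Subgroup.mem_centralizer_singleton_iff.1 (hle hl)
  have hlt : Commute l t₀ := by
    have hle : uGen D K (fun s => PosR D s ∧ D.pairing top s = 0) ≤ Subgroup.centralizer {t₀} :=
      uGen_le_iff.2 fun s hs h y => Subgroup.mem_centralizer_singleton_iff.2 (by
        have h1 := torus_conj_elX hc χ hs y
        rw [hchi s hs, h.2, zpow_zero, one_mul] at h1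
        exact (mul_inv_eq_iff_eq_mul.1 h1).symm)
    exact Subgroup.mem_centralizer_singleton_iff.1 (hle hl)
  have hlU : l ∈ UP D K := uGen_mono (fun s _ h => h.1) hl
  have haU : a ∈ UP D K := uGen_mono (fun s _ h => h.1) ha
  have hzc : ∀ {y : GL D.Idx K}, y ∈ UP D K → ∀ b, elX D K top b * y = y * elX D K top b := fun hy b =>
    (cen_commute hc hcomm hB.cen hEnd.top_mem hy b).eq
  have hj2 : j = elX D K top e * (a * t₀ * a⁻¹) := by
    rw [hjdef, hψ, hφg, hual]
    calc a * l * (elX D K top e * t₀) * (a * l)⁻¹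
        = (a * l * elX D K top e) * t₀ * l⁻¹ * a⁻¹ := by group
      _ = (elX D K top e * (a * l)) * t₀ * l⁻¹ * a⁻¹ := by rw [← hzc (mul_mem haU hlU)]
      _ = elX D K top e * a * (l * t₀) * l⁻¹ * a⁻¹ := by group
      _ = _ := by rw [hlt.eq]; group
  have ht₀diag : t₀ ∈ D.diagonalSubgroup K := torus_corChar_mem hc lu
  set y := elX D K top e * (a * t₀ * a⁻¹ * t₀⁻¹) with hy
  have hyU : y ∈ UP D K := by
    refine mul_mem (elX_mem_uGen ht (P := PosR D) htp e) ?_
    rw [show a * t₀ * a⁻¹ * t₀⁻¹ = a * (t₀ * a⁻¹ * t₀⁻¹) by group]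
    exact mul_mem haU (diag_conj_mem hc _ ht₀diag (inv_mem haU))
  have hjy : j = y * t₀ := by rw [hj2, hy]; group
  have hσt : glMap D σ t₀ = t₀ := by
    have h1 := hjfix
    rw [hjy, map_mul] at h1
    have e1 : y⁻¹ * glMap D σ y = t₀ * (glMap D σ t₀)⁻¹ := by
      have := congrArg (fun z => y⁻¹ * z * (glMap D σ t₀)⁻¹) h1
      refine Eq.trans ?_ (this.trans ?_) <;> group
    have h4 := pos_inf_diag hc (mul_mem (inv_mem hyU) (glMap_uGen hc σ hyU))
      (e1 ▸ mul_mem ht₀diag (inv_mem (glMap_diagonal hc σ ht₀diag)))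
    rw [h4] at e1
    exact (mul_inv_eq_one.1 e1.symm).symm
  set w := a⁻¹ * glMap D σ a with hw
  set δ := e - σ e
  have hwt : t₀ * w * t₀⁻¹ = w * elX D K top (-δ) := by
    have h1 := hjfix
    rw [hj2, map_mul, map_mul, map_mul, map_inv, hσt, glMap_elX hc σ ht] at h1
    have h2 : glMap D σ a * t₀ * (glMap D σ a)⁻¹ = elX D K top δ * (a * t₀ * a⁻¹) := by
      have := congrArg (fun z => (elX D K top (σ e))⁻¹ * z) h1
      simp only [inv_mul_cancel_left] at this
      rw [this, ← mul_assoc, elX_inv hc K ht, elX_add hc K ht, neg_add_eq_sub]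
    have hwU : w ∈ UP D K := mul_mem (inv_mem haU) (glMap_uGen hc σ haU)
    have h3 : w * t₀ * w⁻¹ = elX D K top δ * t₀ := by
      calc w * t₀ * w⁻¹ = a⁻¹ * (glMap D σ a * t₀ * (glMap D σ a)⁻¹) * a := by rw [hw]; group
        _ = (a⁻¹ * elX D K top δ) * a * t₀ := by rw [h2]; group
        _ = _ := by rw [← hzc (inv_mem haU), inv_mul_cancel_right]
    rw [← hzc hwU, ← elX_inv hc K ht]
    calc t₀ * w * t₀⁻¹ = (elX D K top δ)⁻¹ * (elX D K top δ * t₀) * w * t₀⁻¹ := by group
      _ = (elX D K top δ)⁻¹ * (w * t₀ * w⁻¹) * w * t₀⁻¹ := by rw [h3]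
      _ = _ := by group
  set R := rootsFrom D (PosR D) 0
  have hR : ∀ s ∈ R, s < D.nroots ∧ PosR D s := fun s hs => ⟨(mem_rootsFrom.1 hs).2.1, (mem_rootsFrom.1 hs).2.2⟩
  have htR : top ∈ R := mem_rootsFrom.2 ⟨Nat.zero_le _, ht, htp⟩
  have hsingle : ∀ b : K, uProd D K R (Pi.single top b) = elX D K top b := fun b => by
    rw [uProd_top hc ht htp _ (fun k hk _ => Pi.single_eq_of_ne hk _), Pi.single_eq_same]
  have haddtop : ∀ (t : ℕ → K) (b : K), uProd D K R (fun s => t s + (Pi.single top b : ℕ → K) s) =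
      uProd D K R t * elX D K top b := fun t b => by
    rw [uProd_add_of_commute hc (fun s hs => (hR s hs).1) t _ fun s hs k hk => ?_, hsingle]
    by_cases hst : s = top
    · subst hst
      exact cen_commute hc hcomm hB.cen hEnd.top_mem (elX_mem_uGen (hR k hk).1 (P := PosR D) (hR k hk).2 _) _
    · rw [Pi.single_eq_of_ne hst, elX_zero hc K (hR s hs).1]; exact Commute.one_left _
  obtain ⟨tw, htw, htwQ⟩ : ∃ tw, w = uProd D K R tw ∧ ∀ s, ¬ Q s → tw s = 0 := by
    obtain ⟨t', ht'⟩ := uGen_exists hc hcomm hQc (mul_mem (inv_mem ha) (glMap_uGen hc σ ha))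
    refine ⟨fun s => if Q s ∧ 0 ≤ s then t' s else 0, ?_, fun s hs => if_neg fun h => hs h.1⟩
    rw [hw, ht']
    exact uProd_extend hc (P := Q) (Q := PosR D) (fun s hs _ => hs.1) 0 t'
  have hwtop : ∀ s ∈ R, s ≠ top → tw s = 0 := by
    intro s hs hst
    have hmap : t₀ * uProd D K R tw * t₀⁻¹ = uProd D K R (fun i => (chi χ (rv D T i) : K) * tw i) := by
      rw [← MulAut.conj_apply, uProd, uProd, map_list_prod, List.map_map]
      exact congrArg List.prod (List.map_congr_left fun i hi => torus_conj_elX hc χ (hR i hi).1 (tw i))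
    have e1 := hwt
    rw [htw, hmap, ← haddtop] at e1
    have e2 : (chi χ (rv D T s) : K) * tw s = tw s + (Pi.single top (-δ) : ℕ → K) s := uProd_inj hc (fun r _ h => h) 0 e1 s hs
    rw [Pi.single_eq_of_ne hst, add_zero, hchi s (hR s hs).1] at e2
    by_cases hQs : Q s
    · rw [(hEnd.pairPos s (hR s hs).1 (hR s hs).2 hst).resolve_left hQs.2, zpow_one] at e2
      by_contra h0
      exact hl1 (mul_right_cancel₀ h0 (e2.trans (one_mul _).symm))
    · exact htwQ s hQs
  have hwx : w = elX D K top (tw top) := by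
    rw [htw, ← hsingle]
    refine uProd_congr fun s hs => ?_
    by_cases hst : s = top
    · subst hst; rw [Pi.single_eq_same]
    · rw [Pi.single_eq_of_ne hst, hwtop s hs hst]
  obtain ⟨sa, hsa⟩ := uGen_exists hc hcomm (closedPos_pos hc) haU
  have hfx : ∀ s ∈ R, σ (sa s) = sa s + (Pi.single top (tw top) : ℕ → K) s := by
    refine uProd_inj hc (fun r _ h => h) 0 ?_
    rw [← glMap_uProd hc σ (fun s hs => (hR s hs).1), haddtop, ← hwx, hw]
    conv_rhs => rw [show uProd D K R sa = a from hsa.symm, mul_inv_cancel_left]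
    rw [show uProd D K R sa = a from hsa.symm]
  set a₁ := uProd D K R (fun s => if s = top then 0 else sa s) with ha₁def
  have ha₁U : a₁ ∈ UP D K := uProd_pos hc R hR _
  have ha₁fix : glMap D σ a₁ = a₁ := by
    rw [ha₁def, glMap_uProd hc σ (fun s hs => (hR s hs).1)]
    refine uProd_congr fun s hs => ?_
    by_cases hst : s = top
    · simp [hst]
    · simp only [if_neg hst]
      rw [hfx s hs, Pi.single_eq_of_ne hst, add_zero]
  have hasplit : a = a₁ * elX D K top (sa top) := by
    rw [ha₁def, ← haddtop, hsa]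
    refine uProd_congr fun s hs => ?_
    by_cases hst : s = top
    · subst hst; simp
    · rw [if_neg hst, Pi.single_eq_of_ne hst, add_zero]
  have ha₁H : a₁ ∈ H := fixed_pos_mem hc hcomm σ hS.root ha₁U ha₁fix
  -- a non-opposite conjugate
  obtain ⟨hi₀, hvp, hvne⟩ := hEnd.step
  set i : Fin D.rank := ⟨i₀, hi₀⟩
  set n := elN D K (D.simple i.val) 1
  have hvs : sig D T i top = D.reflectRoot i₀ top := (reflectRoot_eq' hc i ht).symm
  have hn0 : D.reflectRoot i₀ 0 = D.neg (sig D T i top) := by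
    rw [reflectRoot_eq' hc i h0n, ← sig_neg hc i ht, hnt]
  have hnH : n ∈ H := by
    have := monomial_mem hB hS [i]
    simpa [nProd] using this
  have hnfix : glMap D σ n = n := by
    have := glMap_nProd hc σ [i] (F := K) (E := K)
    simpa [nProd] using this
  refine hnf ?_
  have hfin := fixed_of_conj hB hS hEnd hU hE p hodd (h := n * a₁⁻¹ * h) (u := elX D K (sig D T i top) ((eta D T i top : K) * sa top))
    (mul_mem (mul_mem hnH (inv_mem ha₁H)) hh) (elX_mem_uGen (sig_lt hc i ht) (P := PosR D) (hvs ▸ hvp) _)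
    (r := D.neg (sig D T i top)) (neg_lt hc (sig_lt hc i ht)) (hn0 ▸ hEnd.orbit.closed i₀ hi₀ 0 h0n hEnd.bot_mem)
    (fun h0 => hvne (by rw [← hvs, ← neg_neg_root hc (sig_lt hc i ht), h0, ← hnt, neg_neg_root hc ht]))
    (c := (eta D T i 0 : K) * (c * 1))
    (mul_ne_zero (by rcases eta_cast hc (F := K) i h0n with e' | e' <;> simp [e']) (mul_ne_zero hc0 one_ne_zero)) (by
      have h1 := nOne_conj_elX hc i ht (sa top)
      have h2 := nOne_conj_elX hc i h0n (c * 1)
      rw [show sig D T i 0 = D.neg (sig D T i top) by rw [← sig_neg hc i ht, hnt]] at h2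
      rw [← h1, ← h2]
      calc n * a₁⁻¹ * h * elX D K top 1 * (n * a₁⁻¹ * h)⁻¹
          = n * a₁⁻¹ * (h * elX D K top 1 * h⁻¹) * a₁ * n⁻¹ := by group
        _ = n * elX D K top (sa top) * (l * elX D K 0 (c * 1)) * l⁻¹ * (elX D K top (sa top))⁻¹ * n⁻¹ := by
            rw [hconj, hual, hasplit]; group
        _ = _ := by rw [(hl0 (c * 1)).eq]; simp only [n]; group)
  rw [map_mul, map_mul, map_inv, ha₁fix, hnfix] at hfin
  exact mul_left_cancel hfin

/-- characteristic two -/
theorem all_fixed_two [Fact (Nat.Prime 2)] [CharP K 2] (hsp : SplitOK D K S) {h : GL D.Idx K} (hh : h ∈ H) :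
    glMap D σ h = h := by
  classical
  by_contra hnf
  have hc := hB.checked
  have hcomm := hB.comm
  haveI := hS.finite
  obtain ⟨hz1, -, hz3, hz4⟩ := topOne hB hS hEnd hU hE
  set z := elX D K (topR D) (1 : K)
  have hsq : ∀ {r : ℕ}, r < D.nroots → elX D K r (1 : K) * elX D K r 1 = 1 := fun {r} hr => by
    rw [elX_add hc K hr, CharTwo.add_self_eq_zero, elX_zero hc K hr]
  have hX : ∀ i < D.rank, elX D K (D.simple i) 1 ∈ H ∧ elX D K (D.simple i) 1 ∈ UP D K := fun i hi =>
    ⟨hS.root _ (simple_lt hc hi) _ (map_one σ),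
      elX_mem_uGen (simple_lt hc hi) (P := PosR D) (half_le_simple hc hi) 1⟩
  -- an involution of the unipotent part not conjugate to the top root element
  obtain ⟨y, hyH, hyU, hy1, hy2, hnc⟩ : ∃ y ∈ H, y ∈ UP D K ∧ y ≠ 1 ∧ y * y = 1 ∧
      ∀ g ∈ D.group K, g * z * g⁻¹ ≠ y := by
    rcases hsp with ⟨i, hi, hiS⟩ | ⟨i, hi, j, hj, hij, hnij, hzij⟩
    · refine ⟨_, (hX i hi).1, (hX i hi).2, fun e => one_ne_zero ((elX_eq_one_iff hc (simple_lt hc hi) _).1 e),
        hsq (simple_lt hc hi), fun g hg eg => ?_⟩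
      obtain ⟨u, hu, r, hr, hrS, c, hc0, hcj⟩ := conj_top hB hEnd hg
      rw [hcj] at eg
      have hrp : PosR D r := by
        by_contra hrp
        refine elX_not_mem_borel hc hr (by simp only [PosR] at hrp; omega) (mul_ne_zero hc0 one_ne_zero) ?_
        rw [show elX D K r (c * 1) = u⁻¹ * (u * elX D K r (c * 1) * u⁻¹) * u by group, eg]
        exact pos_le_borel hc (mul_mem (mul_mem (inv_mem hu) (hX i hi).2) hu)
      have hlead := pos_conj_lead hc hcomm hr hrp hu (c * 1)
      have e2 := (eq_of_lead hc hr hrp (simple_lt hc hi) (mul_ne_zero hc0 one_ne_zero) one_ne_zero hlead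
        (by rw [mul_inv_cancel_left, eg])).1
      rw [e2, hrS] at hiS
      cases hiS
    · have hne : D.simple j ≠ D.simple i := fun e => hij (simple_inj hc hi hj e.symm)
      have hcm := commute_elX hc hcomm (simple_lt hc hi) (simple_lt hc hj) hnij hzij (1 : K) 1
      set x₁ := elX D K (D.simple i) (1 : K) with hx₁
      set x₂ := elX D K (D.simple j) (1 : K) with hx₂
      -- a factor outside a complement
      have hout : ∀ k : Fin D.rank, elX D K (D.simple k.val) (1 : K) ∉ uGen D K (CompRoot D k) := by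
        intro k hk
        have h' : elX D K (D.simple k.val) 1 * 1 ∈ uGen D K (CompRoot D k) := by rwa [mul_one]
        exact (lead_mem_closed hc hcomm (simple_lt hc k.2) (half_le_simple hc k.2) (closedPos_comp hc k)
          (one_mem _) h').2 rfl
      have hnorm : ∀ k : Fin D.rank, UP D K ≤ Subgroup.normalizer (uGen D K (CompRoot D k) : Set (GL D.Idx K)) := by
        intro k
        refine uGen_le_iff.2 fun a ha hap t => ?_
        by_cases hak : a = D.simple k.val
        · exact pm_simple_normalizer hc hcomm k (Or.inl hak) t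
        · exact Subgroup.le_normalizer (elX_mem_uGen ha (P := CompRoot D k) ⟨hap, hak⟩ t)
      refine ⟨x₁ * x₂, mul_mem (hX i hi).1 (hX j hj).1, mul_mem (hX i hi).2 (hX j hj).2, fun e => ?_, ?_, fun g hg eg => ?_⟩
      · refine hout ⟨i, hi⟩ ?_
        show x₁ ∈ _
        rw [eq_inv_of_mul_eq_one_left e]
        exact inv_mem (elX_mem_uGen (simple_lt hc hj) (P := CompRoot D ⟨i, hi⟩) ⟨half_le_simple hc hj, hne⟩ 1)
      · rw [mul_assoc, ← mul_assoc x₂, ← hcm, mul_assoc x₁ x₂, hsq (simple_lt hc hj), mul_one, hsq (simple_lt hc hi)]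
      · obtain ⟨u, hu, r, hr, -, c, hc0, hcj⟩ := conj_top hB hEnd hg
        rw [hcj] at eg
        have hrp : PosR D r := by
          by_contra hrp
          refine elX_not_mem_borel hc hr (by simp only [PosR] at hrp; omega) (mul_ne_zero hc0 one_ne_zero) ?_
          rw [show elX D K r (c * 1) = u⁻¹ * (u * elX D K r (c * 1) * u⁻¹) * u by group, eg]
          exact pos_le_borel hc (mul_mem (mul_mem (inv_mem hu) (mul_mem (hX i hi).2 (hX j hj).2)) hu)
        have hin : ∀ k : Fin D.rank, r ≠ D.simple k.val → x₁ * x₂ ∈ uGen D K (CompRoot D k) := fun k hrk => by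
          rw [← eg]
          exact (Subgroup.mem_normalizer_iff.1 (hnorm k hu) _).1
            (elX_mem_uGen hr (P := CompRoot D k) ⟨hrp, hrk⟩ _)
        by_cases hrj : r = D.simple j
        · refine hout ⟨i, hi⟩ ?_
          have h1 := hin ⟨i, hi⟩ (fun e => hne (hrj ▸ e))
          have h2 := mul_mem h1 (inv_mem (elX_mem_uGen (simple_lt hc hj) (P := CompRoot D ⟨i, hi⟩)
            ⟨half_le_simple hc hj, hne⟩ (1 : K)))
          rwa [mul_inv_cancel_right] at h2
        · refine hout ⟨j, hj⟩ ?_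
          have h1 := hin ⟨j, hj⟩ hrj
          have h2 := mul_mem (inv_mem (elX_mem_uGen (simple_lt hc hi) (P := CompRoot D ⟨j, hj⟩)
            ⟨half_le_simple hc hi, Ne.symm hne⟩ (1 : K))) h1
          rwa [inv_mul_cancel_left] at h2
  set z' := h * z * h⁻¹ with hz'
  have hz'H : z' ∈ H := mul_mem (mul_mem hh hz1) (inv_mem hh)
  have hz'2 : z' * z' = 1 := by
    rw [hz', show h * z * h⁻¹ * (h * z * h⁻¹) = h * (z * z) * h⁻¹ by group,
      show z * z = 1 from hsq hEnd.orbit.lt, mul_one, mul_inv_cancel]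
  rcases involution_pair (x := (⟨z', hz'H⟩ : ↥H)) (y := ⟨y, hyH⟩) (Subtype.ext hz'2) (Subtype.ext hy2) with
    ⟨g, hg⟩ | ⟨c, hc1, hc2, hcx, hcy⟩
  · refine hnc ((g : GL D.Idx K) * h) (mul_mem (hS.le_group g.2) (hS.le_group hh)) ?_
    have hg' := congrArg Subtype.val hg
    simp only [Subgroup.coe_mul, Subgroup.coe_inv, hz'] at hg'
    rw [← hg']; group
  · have hcy' : (c : GL D.Idx K) * y = y * c := congrArg Subtype.val hcy.eq
    have hcx' : (c : GL D.Idx K) * z' = z' * c := congrArg Subtype.val hcx.eq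
    have hcfix : glMap D σ (c : GL D.Idx K) = c := by
      refine fixed_of_strong hB hS hEnd hU hE 2 hyH hyU hy1 c.2 ?_
      rw [hcy', mul_inv_cancel_right]
      exact hU y hyH hyU
    have hzfix : glMap D σ z' = z' := by
      refine fixed_strongly_embedded hB hS hU hE 2 c.2 (fun e => hc1 (Subtype.ext e))
        ⟨1, by rw [pow_one, pow_two]; exact congrArg Subtype.val hc2⟩ hcfix hz'H ?_
      rw [← hcx', mul_inv_cancel_right]
      exact hcfix
    exact hnf (fixed_of_strong hB hS hEnd hU hE 2 hz1 hz3 hz4 hh hzfix)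

end

end CfsgLib.ChevCent.Over
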