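import Cfsg.Agent.Lib.ChevCent.Over.Setting
import Cfsg.Agent.Lib.ChevCent.Basic
import Cfsg.Prelude.Def_ChevAutomorphisms

/-!
# Conjugates of the top root elements; elements with a non-opposite conjugate are fixed
-/

set_option autoImplicit false
set_option linter.unusedSectionVars false

namespace CfsgLib.ChevCent.Over

open Cfsg.Lie CfsgLib.Chev CfsgLib.ChevField

variable {D : ChevalleyDatum} {T : Tabs} {K : Type*} [Field K]

/-- the highest root -/
abbrev topR (D : ChevalleyDatum) : ℕ := D.nroots - 1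

/-- the conditions on the long roots -/
structure EndOK (D : ChevalleyDatum) (K : Type*) [Field K] (Z : List ℕ) (S : ℕ → Bool) (i₀ : ℕ) : Prop where
  top_mem : topR D ∈ Z
  orbit : IsOrbitTop D S (topR D)
  bot_mem : S 0 = true
  step : i₀ < D.rank ∧ PosR D (D.reflectRoot i₀ (topR D)) ∧ D.reflectRoot i₀ (topR D) ≠ topR D
  nonopp : (∀ z : K, z + z = 0 → z = 0) → ∀ r < D.nroots, r < D.nroots / 2 → r ≠ 0 → S r = true →
    (∀ q ∈ D.commTerms (topR D) r, ((q.2.1 : ℤ) : K) = 0) ∨
      ∃ v : ℕ, ∃ C : ℤ, D.commTerms (topR D) r = [(v, C, 1, 1)] ∧ PosR D v ∧ (C : K) ≠ 0 ∧ v ≠ r ∧ r ≠ D.neg v ∧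
        ∀ q ∈ D.commTerms v r, ((q.2.1 : ℤ) : K) = 0
  pairTop : D.pairing (topR D) (topR D) = 2
  pairPos : ∀ r < D.nroots, PosR D r → r ≠ topR D → D.pairing (topR D) r = 0 ∨ D.pairing (topR D) r = 1
  levi : ∀ r < D.nroots, PosR D r → D.pairing (topR D) r = 0 →
    r ≠ 0 ∧ r ≠ D.neg 0 ∧ ∀ q ∈ D.commTerms r 0, ((q.2.1 : ℤ) : K) = 0

section
variable (hc : Checked D T)
include hc

/-- a product whose coefficients below `r` vanish -/
theorem uProd_skip {r : ℕ} (hr : r ≤ D.nroots) (t : ℕ → K) (h : ∀ j, j < r → PosR D j → t j = 0) :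
    uProd D K (rootsFrom D (PosR D) 0) t = uProd D K (rootsFrom D (PosR D) r) t := by
  have hlead : ∀ j ≤ r, uProd D K (rootsFrom D (PosR D) 0) t = uProd D K (rootsFrom D (PosR D) j) t := by
    intro j
    induction j with
    | zero => intro _; rfl
    | succ j ihj =>
      intro hj
      rw [ihj (by omega)]
      by_cases hP : PosR D j
      · rw [rootsFrom_eq_cons (by omega) hP, uProd, List.map_cons, List.prod_cons, h j (by omega) hP,
          elX_zero hc K (show j < D.nroots by omega), one_mul]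
        rfl
      · rw [rootsFrom_eq_skip (by omega) hP]
  exact hlead r le_rfl

theorem top_spec {S : ℕ → Bool} (h : IsOrbitTop D S (topR D)) : topR D < D.nroots ∧ PosR D (topR D) ∧ D.neg (topR D) = 0 ∧
    0 < D.nroots ∧ topR D + 1 = D.nroots := by
  have := h.lt; have := nroots_eq_two_mul hc; have e := neg_eq hc h.lt
  refine ⟨h.lt, ?_, ?_, by omega, ?_⟩ <;> simp only [PosR, topR] at * <;> omega

theorem uProd_top (h : topR D < D.nroots) (hp : PosR D (topR D)) (t : ℕ → K)
    (h0 : ∀ j, j ≠ topR D → PosR D j → t j = 0) :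
    uProd D K (rootsFrom D (PosR D) 0) t = elX D K (topR D) (t (topR D)) := by
  rw [uProd_skip hc (le_of_lt h) t (fun j hj hjp => h0 j (by omega) hjp), rootsFrom_eq_cons h hp, uProd,
    List.map_cons, List.prod_cons, rootsFrom_ge (by simp only [topR] at *; omega)]
  simp

theorem pairing_eq (r : ℕ) (hr : r < D.nroots) (s : ℕ) :
    D.pairing r s = ∑ k : Fin D.rank, cv T r k * D.cartan k s := by
  rw [ChevalleyDatum.pairing]
  refine Eq.trans (show _ = ∑ i ∈ Finset.range D.rank, (D.coroot.getD r #[]).getD i 0 * D.cartan i s from rfl) ?_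
  rw [← Fin.sum_univ_eq_sum_range]
  exact Finset.sum_congr rfl fun k _ => by rw [coroot_eq hc hr k.2]

theorem pairing_comb {r a b v : ℕ} (hr : r < D.nroots) (ha : a < D.nroots) (hb : b < D.nroots) (hv : v < D.nroots)
    {i j : ℤ} (e : rv D T v = i • rv D T a + j • rv D T b) :
    D.pairing r v = i * D.pairing r a + j * D.pairing r b := by
  simp only [pairing_eq hc r hr, cartan_linear hc _ hv, cartan_linear hc _ ha, cartan_linear hc _ hb, e,
    Pi.add_apply, Pi.smul_apply, smul_eq_mul, Finset.mul_sum, ← Finset.sum_add_distrib]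
  exact Finset.sum_congr rfl fun k _ => Finset.sum_congr rfl fun l _ => by ring

end

section
variable {σ : K →+* K} {H : Subgroup (GL D.Idx K)} {Z : List ℕ} {S : ℕ → Bool} {i₀ : ℕ}
variable (hB : Base D T K Z) (hS : Setting D K σ H) (hEnd : EndOK D K Z S i₀)
include hB hEnd

/-- conjugates of the top root elements -/
theorem conj_top {h : GL D.Idx K} (hh : h ∈ D.group K) : ∃ u ∈ UP D K, ∃ r, r < D.nroots ∧ S r = true ∧
    ∃ c : K, c ≠ 0 ∧ ∀ a, h * elX D K (topR D) a * h⁻¹ = u * elX D K r (c * a) * u⁻¹ := by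
  have hc := hB.checked
  have ht := hEnd.orbit.lt
  obtain ⟨L, u, d, v, hu, hd, hv, rfl⟩ := ChevField.exists_bruhat hc hB.comm hh
  obtain ⟨c, -, hcx⟩ := nProd_conj_elX hc (F := K) L ht
  obtain ⟨e, he⟩ := diagonal_conj_elX hc hd (sigs_lt hc L ht)
  refine ⟨u, hu, sigs D T L (topR D), sigs_lt hc L ht, sigs_orbit hc hEnd.orbit L ht hEnd.orbit.mem,
    (e : K) * (c : K), mul_ne_zero e.ne_zero (by simp), fun a => ?_⟩
  have hva : v * elX D K (topR D) a * v⁻¹ = elX D K (topR D) a := by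
    rw [← (cen_commute hc hB.comm hB.cen hEnd.top_mem (uGen_mono (fun r _ h => h.1) hv) a).eq, mul_inv_cancel_right]
  rw [mul_assoc (e : K), ← he, ← hcx]
  conv_lhs => rw [show u * d * nProd D K L * v * elX D K (topR D) a * (u * d * nProd D K L * v)⁻¹
    = u * d * nProd D K L * (v * elX D K (topR D) a * v⁻¹) * (u * d * nProd D K L)⁻¹ by group, hva]
  group

variable (hU : ∀ h ∈ H, h ∈ UP D K → glMap D σ h = h) (hE : ExtOK D K σ H Z)
include hS hU hE

theorem topOne : elX D K (topR D) (1 : K) ∈ H ∧ glMap D σ (elX D K (topR D) (1 : K)) = elX D K (topR D) 1 ∧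
    elX D K (topR D) (1 : K) ∈ UP D K ∧ elX D K (topR D) (1 : K) ≠ 1 := by
  have hc := hB.checked
  have ht := hEnd.orbit.lt
  refine ⟨hS.root _ ht _ (map_one σ), by rw [glMap_elX hc σ ht, map_one],
    elX_mem_uGen ht (P := PosR D) (top_spec hc hEnd.orbit).2.1 1, fun h => ?_⟩
  exact one_ne_zero ((elX_eq_one_iff hc ht _).1 h)

theorem fixed_of_strong (p : ℕ) [Fact p.Prime] [CharP K p] {x h : GL D.Idx K} (hx : x ∈ H) (hxU : x ∈ UP D K)
    (hx1 : x ≠ 1) (hh : h ∈ H) (hconj : glMap D σ (h * x * h⁻¹) = h * x * h⁻¹) : glMap D σ h = h := by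
  obtain ⟨k, hk⟩ := CfsgLib.Chev.isPGroup_pos hB.checked p (⟨x, hxU⟩ : ↥(uGen D K (fun s => D.nroots / 2 ≤ s)))
  exact fixed_strongly_embedded hB hS hU hE p hx hx1 ⟨k, congrArg Subtype.val hk⟩ (hU x hx hxU) hh hconj

/-- an element sending a top root element to a positive root element is fixed -/
theorem fixed_of_conj_pos (p : ℕ) [Fact p.Prime] [CharP K p] {h u : GL D.Idx K} (hh : h ∈ H) (hu : u ∈ UP D K)
    {r : ℕ} (hr : r < D.nroots) (hrp : PosR D r) {c : K}
    (e : h * elX D K (topR D) 1 * h⁻¹ = u * elX D K r c * u⁻¹) : glMap D σ h = h := by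
  obtain ⟨h1, -, h3, h4⟩ := topOne hB hS hEnd hU hE
  refine fixed_of_strong hB hS hEnd hU hE p h1 h3 h4 hh (hU _ (mul_mem (mul_mem hh h1) (inv_mem hh)) ?_)
  rw [e]
  exact mul_mem (mul_mem hu (elX_mem_uGen hr (P := PosR D) hrp c)) (inv_mem hu)

/-- in odd characteristic an element sending a top root element to a non-opposite root element is fixed -/
theorem fixed_of_conj (p : ℕ) [Fact p.Prime] [CharP K p] (hodd : ∀ z : K, z + z = 0 → z = 0) {h u : GL D.Idx K}
    (hh : h ∈ H) (hu : u ∈ UP D K) {r : ℕ} (hr : r < D.nroots) (hrS : S r = true) (hr0 : r ≠ 0) {c : K} (hc0 : c ≠ 0)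
    (e : h * elX D K (topR D) 1 * h⁻¹ = u * elX D K r c * u⁻¹) : glMap D σ h = h := by
  by_cases hrp : PosR D r
  · exact fixed_of_conj_pos hB hS hEnd hU hE p hh hu hr hrp e
  have hc := hB.checked
  have hcomm := hB.comm
  obtain ⟨ht, htp, hnt, -, -⟩ := top_spec hc hEnd.orbit
  obtain ⟨h1, h2, h3, h4⟩ := topOne hB hS hEnd hU hE
  set z := elX D K (topR D) (1 : K)
  set z' := h * z * h⁻¹ with hz'
  have hz'H : z' ∈ H := mul_mem (mul_mem hh h1) (inv_mem hh)
  -- it is enough that the conjugate is fixed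
  suffices hfix : glMap D σ z' = z' from fixed_of_strong hB hS hEnd hU hE p h1 h3 h4 hh hfix
  have hzu : z * u = u * z := (cen_commute hc hcomm hB.cen hEnd.top_mem hu 1).eq
  have hne : r ≠ topR D := fun er => hrp (er ▸ htp)
  have hneg : r ≠ D.neg (topR D) := by rw [hnt]; exact hr0
  have hzx := elX_conj_elX hc hcomm ht hr hne hneg (1 : K) c
  rcases hEnd.nonopp hodd r hr (by omega) hr0 hrS with hz | ⟨v, C, hq, hvp, hC, hvr, hrv, hvz⟩
  · have e1 : z' * z * z'⁻¹ = z := by
      have hw : wordGL D K (D.commWord K (topR D) r (-1) c) = 1 := List.prod_eq_one fun y hy => by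
        obtain ⟨q, hq, rfl⟩ := List.mem_map.1 hy
        obtain ⟨q₀, hq₀, rfl⟩ := List.mem_map.1 hq
        simp only [hz q₀ hq₀, zero_mul]
        exact elX_zero hc K (commTerms_weight hc ht hr q₀ hq₀).1
      rw [hw, mul_one] at hzx
      rw [e, mul_inv_eq_iff_eq_mul, ← mul_assoc, ← mul_assoc, hzu]
      have h5 : elX D K r c * z = z * elX D K r c := (mul_inv_eq_iff_eq_mul.1 hzx).symm
      calc u * elX D K r c * u⁻¹ * z = u * elX D K r c * (u⁻¹ * (z * u)) * u⁻¹ := by group
        _ = u * (elX D K r c * z) * u⁻¹ := by rw [hzu]; group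
        _ = _ := by rw [h5]; group
    exact fixed_of_strong hB hS hEnd hU hE p h1 h3 h4 hz'H (by rw [e1, h2])
  · have hqm : (v, C, 1, 1) ∈ D.commTerms (topR D) r := by rw [hq]; exact List.mem_singleton_self _
    have hvn := (commTerms_weight hc ht hr _ hqm).1
    have hw : wordGL D K (D.commWord K (topR D) r (-1) c) = elX D K v ((C : K) * c) := by
      simp [wordGL, ChevalleyDatum.commWord, hq]
    rw [hw] at hzx
    set y := z * z' * z⁻¹ * z'⁻¹
    have hcmm := commute_elX hc hcomm hvn hr hrv hvz ((C : K) * c) c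
    have hy : y = u * elX D K v ((C : K) * c) * u⁻¹ := by
      calc y = (z * u) * elX D K r c * (z * u)⁻¹ * (u * elX D K r c * u⁻¹)⁻¹ := by simp only [y]; rw [e]; group
        _ = u * (z * elX D K r c * z⁻¹) * (elX D K r c)⁻¹ * u⁻¹ := by rw [hzu]; group
        _ = u * elX D K v ((C : K) * c) * u⁻¹ := by rw [hzx, ← hcmm]; group
    have hyH : y ∈ H := mul_mem (mul_mem (mul_mem h1 hz'H) (inv_mem h1)) (inv_mem hz'H)
    have hyU : y ∈ UP D K := by rw [hy]; exact mul_mem (mul_mem hu (elX_mem_uGen hvn (P := PosR D) hvp _)) (inv_mem hu)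
    have hy1 : y ≠ 1 := by
      rw [hy, Ne, conj_eq_one_iff, elX_eq_one_iff hc hvn]
      exact mul_ne_zero hC hc0
    refine fixed_of_strong hB hS hEnd hU hE p hyH hyU hy1 hz'H ?_
    have e2 : z' * y * z'⁻¹ = y := by
      rw [e, hy, show u * elX D K r c * u⁻¹ * (u * elX D K v ((C : K) * c) * u⁻¹) * (u * elX D K r c * u⁻¹)⁻¹
        = u * (elX D K r c * elX D K v ((C : K) * c)) * (elX D K r c)⁻¹ * u⁻¹ by group, ← hcmm]
      group
    rw [e2]
    exact hU y hyH hyU

end

end CfsgLib.ChevCent.Over
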