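import Cfsg.Agent.Lib.ChevCent.Over.Setting
import Cfsg.Agent.Lib.ChevCent.Basic
import Cfsg.Agent.Lib.ChevCent.CommGen

/-!
# Extracting a root element with a coefficient outside the fixed field
-/

set_option autoImplicit false
set_option linter.unusedSectionVars false

namespace CfsgLib.ChevCent.Over

open Cfsg.Lie CfsgLib.Chev CfsgLib.ChevField

variable {D : ChevalleyDatum} {T : Tabs} {K : Type*} [Field K]

/-- the commutator terms of `r` and `s` vanish -/
def VanOK (D : ChevalleyDatum) (K : Type*) [Field K] (r s : ℕ) : Prop :=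
  r < D.nroots ∧ s < D.nroots ∧ s ≠ D.neg r ∧ ∀ q ∈ D.commTerms r s, ((q.2.1 : ℤ) : K) = 0

/-- the first commutator term of `r` and `s` is linear, invertible and below the others -/
def LeadOK (D : ChevalleyDatum) (K : Type*) [Field K] (r s : ℕ) : Prop :=
  r < D.nroots ∧ s < D.nroots ∧ s ≠ r ∧ s ≠ D.neg r ∧
    ∃ v : ℕ, ∃ C : ℤ, ∃ j : ℕ, (D.commTerms r s).filter (fun q => q.1 == v) = [(v, C, 1, j)] ∧ PosR D v ∧
      (C : K) ≠ 0 ∧ ∀ q ∈ D.commTerms r s, q.1 ≠ v → v < q.1 ∨ ((q.2.1 : ℤ) : K) = 0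

/-- the only surviving commutator term of `a` and `b` is the linear one at `v` -/
def SoleOK (D : ChevalleyDatum) (K : Type*) [Field K] (a b v : ℕ) : Prop :=
  a < D.nroots ∧ b < D.nroots ∧ b ≠ a ∧ b ≠ D.neg a ∧ ∃ C : ℤ, (C : K) ≠ 0 ∧
    (D.commTerms a b).filter (fun q => q.1 == v) = [(v, C, 1, 1)] ∧
    ∀ q ∈ D.commTerms a b, q.1 ≠ v → ((q.2.1 : ℤ) : K) = 0

section
variable (hc : Checked D T) (hcomm : CommOne D T)
include hc hcomm

theorem sole_conj {a b v : ℕ} (h : SoleOK D K a b v) : ∃ C : ℤ, (C : K) ≠ 0 ∧ v < D.nroots ∧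
    ∀ t u : K, elX D K a t * elX D K b u * (elX D K a t)⁻¹ = elX D K b u * elX D K v ((C : K) * (t * u)) := by
  obtain ⟨ha, hb, hba, hneg, C, hC, hfil, hz⟩ := h
  have hmem : (v, C, 1, 1) ∈ D.commTerms a b := List.mem_of_mem_filter (by rw [hfil]; exact List.mem_singleton_self _)
  refine ⟨C, hC, (commTerms_weight hc ha hb _ hmem).1, fun t u => ?_⟩
  rw [elX_conj_elX hc hcomm ha hb hba hneg]
  congr 1
  set f : ℕ × ℤ × ℕ × ℕ → GL D.Idx K := fun q => elX D K q.1 ((q.2.1 : K) * (-(-t)) ^ q.2.2.1 * u ^ q.2.2.2)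
  have hall : wordGL D K (D.commWord K a b (-t) u) = ((D.commTerms a b).map f).prod := by
    simp only [wordGL, ChevalleyDatum.commWord, List.map_map]; rfl
  have key : ∀ l : List (ℕ × ℤ × ℕ × ℕ), (∀ q ∈ l, q ∈ D.commTerms a b) →
      (l.map f).prod = ((l.filter fun q => q.1 == v).map f).prod := by
    intro l
    induction l with
    | nil => intro _; rfl
    | cons q l ih =>
      intro hl
      have e := ih fun x hx => hl x (List.mem_cons_of_mem _ hx)
      by_cases hqv : q.1 = v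
      · rw [List.filter_cons_of_pos (by simpa using hqv), List.map_cons, List.map_cons, List.prod_cons,
          List.prod_cons, e]
      · have hq := hl q (List.mem_cons_self ..)
        rw [List.filter_cons_of_neg (by simpa using hqv), List.map_cons, List.prod_cons, e]
        simp only [f, hz q hq hqv, zero_mul, elX_zero hc K (commTerms_weight hc ha hb q hq).1, one_mul]
  rw [hall, key _ (fun _ h => h), hfil]
  simp [f, mul_assoc]

theorem lead_fixed (σ : K →+* K) {r s : ℕ} (h : LeadOK D K r s) {b : K}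
    (hfix : ∀ w ∈ UP D K, w = (elX D K s 1)⁻¹ * (elX D K r b * elX D K s 1 * (elX D K r b)⁻¹) → glMap D σ w = w) :
    σ b = b := by
  obtain ⟨hr, hs, hsr, hneg, v, C, j₀, hfil, hvp, hC, hgt⟩ := h
  set f : ℕ × ℤ × ℕ × ℕ → GL D.Idx K := fun q => elX D K q.1 ((q.2.1 : K) * (-(-b)) ^ q.2.2.1 * 1 ^ q.2.2.2)
  have hmem : (v, C, 1, j₀) ∈ D.commTerms r s := List.mem_of_mem_filter (by rw [hfil]; exact List.mem_singleton_self _)
  have hv : v < D.nroots := (commTerms_weight hc hr hs _ hmem).1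
  set N := uGen D K (fun a => v < a)
  have hNn := above_normal hc hcomm (K := K) hvp
  obtain ⟨k, hk, hprod⟩ : ∃ k ∈ N, ((D.commTerms r s).map f).prod = elX D K v ((C : K) * b) * k := by
    have hterm : ∀ q ∈ D.commTerms r s, q.1 < D.nroots := fun q hq => (commTerms_weight hc hr hs q hq).1
    have hin : ∀ q ∈ D.commTerms r s, q.1 ≠ v → f q ∈ N := fun q hq hqv => by
      rcases hgt q hq hqv with h | h
      · exact elX_mem_uGen (hterm q hq) (P := fun a => v < a) h _
      · simp only [f, h, zero_mul, elX_zero hc K (hterm q hq)]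
        exact one_mem _
    obtain ⟨k, hk, e⟩ := prod_mod (C := N) f (fun q => q.1 == v) (D.commTerms r s)
      (fun q hq hqv => hin q hq (by simpa using hqv))
      (fun q hq => hNn (by
        by_cases hqv : q.1 = v
        · exact elX_mem_uGen (hterm q hq) (P := PosR D) (by rw [hqv]; exact hvp) _
        · exact uGen_mono (fun a _ ha => le_trans hvp (le_of_lt ha)) (hin q hq hqv)))
    refine ⟨k, hk, ?_⟩
    rw [e, hfil]
    simp [f]
  have hw : wordGL D K (D.commWord K r s (-b) 1) = elX D K v ((C : K) * b) * k := by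
    rw [← hprod]
    simp only [wordGL, ChevalleyDatum.commWord, List.map_map]; rfl
  have hwU : elX D K v ((C : K) * b) * k ∈ UP D K :=
    mul_mem (elX_mem_uGen hv (P := PosR D) hvp _) (uGen_mono (fun a _ ha => le_trans hvp (le_of_lt ha)) hk)
  have e := hfix _ hwU (by rw [elX_conj_elX hc hcomm hr hs hsr hneg, hw, inv_mul_cancel_left])
  rw [map_mul, glMap_elX hc σ hv] at e
  obtain ⟨j, hj⟩ := exists_cv_ne_zero hc K hv
  have e1 := coord_eq hc hv hvp (σ ((C : K) * b)) (glMap_uGen hc σ hk) j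
  have e2 := coord_eq hc hv hvp ((C : K) * b) hk j
  rw [e, e2] at e1
  have e3 := mul_left_cancel₀ hj e1
  rw [map_mul, map_intCast] at e3
  exact (mul_left_cancel₀ hC e3).symm

theorem van_commute {r s : ℕ} (h : VanOK D K r s) (t u : K) : Commute (elX D K r t) (elX D K s u) :=
  commute_elX hc hcomm h.1 h.2.1 h.2.2.1 h.2.2.2 t u

end

section
variable {σ : K →+* K} {H : Subgroup (GL D.Idx K)} {Z : List ℕ}
variable (hB : Base D T K Z) (hS : Setting D K σ H)
include hB hS

/-- a central part with a coefficient outside the fixed field -/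
theorem exists_central_nonfixed (q : ℕ) [Fact q.Prime] [CharP K q] {u : GL D.Idx K} (hu : u ∈ H) (huU : u ∈ UP D K) (hnf : glMap D σ u ≠ u) :
    ∃ t : ℕ → K, (∀ r, r ∉ Z → t r = 0) ∧ uProd D K (rootsFrom D (PosR D) 0) t ∈ H ∧
      glMap D σ (uProd D K (rootsFrom D (PosR D) 0) t) ≠ uProd D K (rootsFrom D (PosR D) 0) t := by
  have hc := hB.checked
  have hcomm := hB.comm
  haveI := hS.finite
  let P : Subgroup ↥H := (UP D K).subgroupOf H
  let Q : Subgroup ↥H := ((glMap D σ).comp H.subtype).eqLocus H.subtype ⊓ P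
  have hPp : IsPGroup q ↥P := (CfsgLib.Chev.isPGroup_pos hc q).comap_subtype
  have hne : Q ≠ P := fun e => hnf (by
    have h1 : (⟨u, hu⟩ : ↥H) ∈ Q := by rw [e]; exact huU
    exact h1.1)
  obtain ⟨g, hgP, hgQ, hgN⟩ := exists_normalizing hPp (inf_le_right : Q ≤ P) hne
  obtain ⟨u₁, hu₁, hfix, t, ht, e⟩ := exists_fixed_mul_central hc hcomm hB.cen hB.wit σ hgP fun s hs hsp => by
    have hx : (⟨elX D K s 1, hS.root s hs 1 (map_one σ)⟩ : ↥H) ∈ Q :=
      ⟨by show glMap D σ (elX D K s 1) = elX D K s 1; rw [glMap_elX hc σ hs, map_one],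
        elX_mem_uGen hs (P := PosR D) hsp 1⟩
    exact ((Subgroup.mem_normalizer_iff.1 hgN _).1 hx).1
  have hu₁H := fixed_pos_mem hc hcomm σ hS.root hu₁ hfix
  refine ⟨t, ht, ?_, fun hz => hgQ ⟨?_, hgP⟩⟩
  · have := mul_mem (inv_mem hu₁H) g.2
    rw [show (g : GL D.Idx K) = _ from e, inv_mul_cancel_left] at this
    exact this
  · show glMap D σ (g : GL D.Idx K) = g
    rw [show (g : GL D.Idx K) = _ from e, map_mul, hfix, hz]

end

end CfsgLib.ChevCent.Over
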