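import Cfsg.Agent.Lib.ChevCent.Over.Unip
import Cfsg.Agent.Lib.ChevCent.Optimal

/-!
# Elements of a finite overgroup inside a parabolic subgroup
-/

set_option autoImplicit false
set_option linter.unusedSectionVars false

namespace CfsgLib.ChevCent.Over

open Cfsg.Lie CfsgLib.Chev CfsgLib.ChevField

variable {D : ChevalleyDatum} {T : Tabs} {K : Type*} [Field K]

/-- the negatives of the outer roots -/
def NegOut (D : ChevalleyDatum) (J : Set ℕ) (r : ℕ) : Prop := OutRoot D J (D.neg r)

section
variable (hc : Checked D T) (hcomm : CommOne D T)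
include hc hcomm

/-- a monomial element conjugating a product led by a positive root into `B` keeps that root positive -/
theorem keep_of_lead {r : ℕ} (hr : r < D.nroots) (hrp : PosR D r) (L : List (Fin D.rank)) {k : GL D.Idx K}
    (hk : k ∈ uGen D K (fun s => r < s)) (hU : elX D K r 1 * k ∈ UP D K)
    (hn : nProd D K L * (elX D K r 1 * k) * (nProd D K L)⁻¹ ∈ D.borelSubgroup K) :
    PosR D (sigs D T L r) :=
  (lead_mem_closed hc hcomm hr hrp (closedPos_keep hc L) hk (mem_keep hc hcomm L hU hn)).2

/-- an element conjugating the fundamental root elements into `U` is in the Borel subgroup -/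
theorem mem_borel_of_simples {g : GL D.Idx K} (hg : g ∈ D.group K)
    (h : ∀ i : Fin D.rank, g * elX D K (D.simple i.val) 1 * g⁻¹ ∈ UP D K) : g ∈ D.borelSubgroup K := by
  obtain ⟨L, u, d, v, hu, hd, hv, rfl⟩ := ChevField.exists_bruhat hc hcomm hg
  have hvp : v ∈ UP D K := uGen_mono (fun r _ hP => hP.1) hv
  have hub : u * d ∈ D.borelSubgroup K := mul_mem (pos_le_borel hc hu) (diagonal_le_borel hc hd)
  refine mul_mem (mul_mem hub (diagonal_le_borel hc (nProd_mem_of_pos hc L fun i => ?_))) (pos_le_borel hc hvp)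
  have hi := simple_lt hc i.2
  have hip := half_le_simple hc i.2
  set a := D.simple i.val
  refine keep_of_lead hc hcomm hi hip L (pos_conj_lead hc hcomm hi hip hvp (1 : K)) ?_ ?_
  · rw [mul_inv_cancel_left]
    exact mul_mem (mul_mem hvp (elX_mem_uGen hi (P := PosR D) hip 1)) (inv_mem hvp)
  · rw [mul_inv_cancel_left]
    have := mul_mem (mul_mem (inv_mem hub) (pos_le_borel hc (h i))) hub
    convert this using 1
    simp only [a]
    group

/-- an element centralising the outer root elements with coefficient one lies in `U` -/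
theorem mem_pos_of_centralize_out (htest : linkTest D = true) {J : Set ℕ} (hJ : ∃ i, i < D.rank ∧ i ∉ J)
    {g : GL D.Idx K} (hg : g ∈ D.group K)
    (hcen : ∀ r < D.nroots, OutRoot D J r → g * elX D K r 1 * g⁻¹ = elX D K r 1) : g ∈ UP D K := by
  classical
  obtain ⟨j0, hj0, hj0J⟩ := hJ
  have hrec : ∀ {A : Type} [AddCommGroup A] (φ : (Fin D.rank → ℤ) →+ A),
      (∀ r, r < D.nroots → OutRoot D J r → φ (rv D T r) = 0) → ∀ i, φ (Pi.single i 1) = 0 := by
    intro A _ φ hφ i
    by_cases hi : (i : ℕ) ∈ J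
    · obtain ⟨r, k, hr, hk, hrp, hkp, hrj, hkj, e⟩ :=
        exists_linked hc htest (i := i) (j := ⟨j0, hj0⟩) (fun e => hj0J (by rw [e] at hi; exact hi))
      have h1 := hφ r hr ((outRoot_iff hc hr).2 ⟨hrp, ⟨j0, hj0⟩, hj0J, hrj⟩)
      have h2 := hφ k hk ((outRoot_iff hc hk).2 ⟨hkp, ⟨j0, hj0⟩, hj0J, hkj⟩)
      rwa [e, map_add, h1, zero_add] at h2
    · have hp := simple_lt hc i.2
      have := hφ _ hp ((outRoot_iff hc hp).2 ⟨half_le_simple hc i.2, i, hi, by simp [rv_simple hc]⟩)
      rwa [rv_simple hc] at this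
  obtain ⟨L, u, d, v, hu, hd, hv, rfl⟩ := ChevField.exists_bruhat hc hcomm hg
  have hvp : v ∈ UP D K := uGen_mono (fun r _ hP => hP.1) hv
  have hub : u * d ∈ D.borelSubgroup K := mul_mem (pos_le_borel hc hu) (diagonal_le_borel hc hd)
  set n := nProd D K L
  -- the monomial part fixes every outer root
  have hfix : ∀ m r, D.nroots - r ≤ m → r < D.nroots → OutRoot D J r → sigs D T L r = r := by
    intro m
    induction m with
    | zero => intro r h1 h2; omega
    | succ m ih =>
      intro r hrm hr hR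
      have hlead := pos_conj_lead hc hcomm hr hR.1 hvp (1 : K)
      set k := (elX D K r 1)⁻¹ * (v * elX D K r 1 * v⁻¹)
      have hkO : k ∈ uGen D K (OutRoot D J) := by
        refine mul_mem (inv_mem (elX_mem_uGen hr (P := OutRoot D J) hR 1)) ?_
        exact (Subgroup.mem_normalizer_iff.1 (pos_normalizes_radical hc hcomm J hvp) _).1
          (elX_mem_uGen hr (P := OutRoot D J) hR 1)
      have hCgt : ClosedPos D T (fun s => PosR D s ∧ r < s) := by
        refine ⟨fun s _ h => h.1, fun a b w ha hb h1 h2 hw => ?_⟩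
        exact ⟨(closedPos_pos hc).2 a b w ha hb h1.1 h2.1 hw,
          lt_trans h1.2 (combRoot_gt hc ha hb h1.1 h2.1 hw).1⟩
      have hCout : ClosedPos D T (OutRoot D J) :=
        ⟨fun s _ h => h.1, fun a b w ha hb h1 h2 hw => outRoot_comb hc ha h1.1 hb h2 hw⟩
      have hk2 := uGen_inter hc hcomm hCgt hCout
        (uGen_mono (fun s _ hs => ⟨le_trans hR.1 (le_of_lt hs), hs⟩) hlead) hkO
      have hk3 : n * k * n⁻¹ ∈ uGen D K (fun s => r < s) :=
        ChevField.nProd_conj_uGen hc L (fun s hs hP => by rw [ih s (by omega) hs hP.2]; exact hP.1.2) hk2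
      obtain ⟨c, -, hcx⟩ := nProd_conj_elX hc (F := K) L hr
      obtain ⟨u', hu', d', hd', hud⟩ := (mem_borel hc).1 (inv_mem hub)
      obtain ⟨χ, hχ⟩ := (mem_diagonal hc).1 hd'
      obtain ⟨k', hk', hl'⟩ := borel_conj_lead hc hcomm hr hR.1 hu' (hPar D K χ)
      rw [hχ, ← hud] at hl'
      have e1 : elX D K (sigs D T L r) ((c : K) * 1) * (n * k * n⁻¹)
          = elX D K r (chi (hPar D K χ) (rv D T r) : K) * k' := by
        rw [← hl', ← hcx]
        conv_rhs => rw [← hcen r hr hR]
        simp only [k, n]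
        group
      refine (eq_of_lead hc hr hR.1 (sigs_lt hc L hr) (e := (c : K) * 1) (Units.ne_zero (chi (hPar D K χ) (rv D T r)))
        (by simp) (mul_mem hk' (inv_mem hk3)) ?_).1
      rw [← mul_assoc, ← e1, mul_inv_cancel_right]
  have hLD : n ∈ D.diagonalSubgroup K := by
    refine nProd_mem_of_pos hc L fun i => ?_
    let φ : (Fin D.rank → ℤ) →+ (Fin D.rank → ℤ) :=
      AddMonoidHom.mk' (fun v => refls D L v - v) fun a b => by rw [refls_add]; abel
    have h0 := hrec φ (fun r hr hR => by
      show refls D L (rv D T r) - rv D T r = 0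
      rw [← rv_sigs hc L hr, hfix _ r le_rfl hr hR, sub_self]) i
    have hp := simple_lt hc i.2
    have : sigs D T L (D.simple i.val) = D.simple i.val := rv_inj hc (sigs_lt hc L hp) hp (by
      rw [rv_sigs hc L hp, rv_simple hc]
      exact sub_eq_zero.1 h0)
    rw [this]
    exact half_le_simple hc i.2
  have hgB : u * d * n * v ∈ D.borelSubgroup K :=
    mul_mem (mul_mem hub (diagonal_le_borel hc hLD)) (pos_le_borel hc hvp)
  obtain ⟨u', hu', d', hd', hud⟩ := (mem_borel hc).1 hgB
  obtain ⟨χ, hχ⟩ := (mem_diagonal hc).1 hd'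
  have hchar : ∀ r, r < D.nroots → OutRoot D J r → chi (hPar D K χ) (rv D T r) = 1 := by
    intro r hr hR
    obtain ⟨k, hk, hlead⟩ := borel_conj_lead hc hcomm hr hR.1 hu' (hPar D K χ)
    rw [hχ, ← hud, hcen r hr hR] at hlead
    exact Units.ext (eq_of_lead hc hr hR.1 hr (Units.ne_zero _) one_ne_zero hk hlead).2.symm
  have htriv : hPar D K χ = 1 := by
    funext i
    let φ : (Fin D.rank → ℤ) →+ Additive Kˣ :=
      AddMonoidHom.mk' (fun v => Additive.ofMul (chi (hPar D K χ) v)) fun a b => by
        rw [chi_add]; rfl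
    have h0 : φ (Pi.single i 1) = 0 := by
      by_cases hi : (i : ℕ) ∈ J
      · obtain ⟨r, k, hr, hk, hrp, hkp, hrj, hkj, ek⟩ :=
          exists_linked hc htest (i := i) (j := ⟨j0, hj0⟩) (fun e => hj0J (by rw [e] at hi; exact hi))
        have h1 := hchar r hr ((outRoot_iff hc hr).2 ⟨hrp, ⟨j0, hj0⟩, hj0J, hrj⟩)
        have h2 := hchar k hk ((outRoot_iff hc hk).2 ⟨hkp, ⟨j0, hj0⟩, hj0J, hkj⟩)
        rw [ek, chi_add, h1, one_mul] at h2
        exact congrArg Additive.ofMul h2
      · have hp := simple_lt hc i.2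
        have h1 := hchar _ hp ((outRoot_iff hc hp).2 ⟨half_le_simple hc i.2, i, hi, by simp [rv_simple hc]⟩)
        rw [rv_simple hc] at h1
        exact congrArg Additive.ofMul h1
    have h1 : chi (hPar D K χ) (Pi.single i 1) = 1 := h0
    rwa [chi_single, zpow_one] at h1
  rw [hud, ← hχ, htriv, map_one, mul_one]
  exact hu'

/-- the parabolic subgroup meets the opposite radical trivially -/
theorem eq_one_of_mem_parabolic_negOut {J : Set ℕ} {g : GL D.Idx K} (hP : g ∈ D.parabolicSubgroup K J)
    (hV : g ∈ uGen D K (NegOut D J)) : g = 1 := by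
  classical
  have hlevel : ∀ {r}, r < D.nroots → OutRoot D J r → 1 ≤ outLevel D J (rv D T r) := by
    intro r hr h
    obtain ⟨hp, j, hj, hne⟩ := (outRoot_iff hc hr).1 h
    have hnn : ∀ i : Fin D.rank, 0 ≤ (if (i : ℕ) ∈ J then 0 else rv D T r i) := fun i => by
      split
      · exact le_rfl
      · exact rv_nonneg hc hr hp i
    have hj1 : 1 ≤ rv D T r j := by have := rv_nonneg hc hr hp j; omega
    rw [outLevel]
    refine le_trans ?_ (Finset.single_le_sum (fun i _ => hnn i) (Finset.mem_univ j))
    rw [if_neg hj]; exact hj1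
  -- non-zero entries of parabolic elements do not lower the level
  have hge : ∀ x y, (g : Matrix D.Idx D.Idx K) x y ≠ 0 → outLevel D J (wI D T y) ≤ outLevel D J (wI D T x) := by
    rw [← (levi_decomposition hc hcomm J).2.1, ← SetLike.mem_coe,
      Subgroup.coe_mul_of_right_le_normalizer_left _ _ (le_trans (by
        rw [← (levi_decomposition hc hcomm J).2.1]; exact le_sup_right) (levi_decomposition hc hcomm J).1)] at hP
    obtain ⟨a, ha, l, hl, rfl⟩ := hP
    rw [SetLike.mem_coe, unipotentRadical_eq hc] at ha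
    have hR := raises_uGen hc (outLevel_add (D := D) J) (outLevel_smul (D := D) J) (d := 1) (by norm_num)
      (fun r hr h => hlevel hr h) ha
    intro x y h
    rw [Units.val_mul, Matrix.mul_apply] at h
    obtain ⟨z, -, hz⟩ := Finset.exists_ne_zero_of_sum_ne_zero h
    have h2 := levi_flat hc hl z y (right_ne_zero_of_mul hz)
    by_cases hxz : x = z
    · subst hxz; omega
    · have := hR x z (by rw [Matrix.one_apply_ne hxz]; exact left_ne_zero_of_mul hz)
      omega
  have hR := raises_uGen hc (f := fun v => -outLevel D J v) (fun a b => by rw [outLevel_add]; ring)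
    (fun c a => by rw [outLevel_smul]; ring) (d := 1) (by norm_num)
    (fun r hr h => by
      have := hlevel (neg_lt hc hr) h
      rw [rv_neg hc hr, outLevel_neg] at this
      exact this) hV
  refine Units.ext (Matrix.ext fun x y => ?_)
  by_contra h
  have h1 := hR x y h
  dsimp only at h1
  by_cases hxy : x = y
  · subst hxy; omega
  · rw [Units.val_one, Matrix.one_apply_ne hxy] at h
    have := hge x y h
    omega

/-- the parabolic subgroup of a point normalises its high root group -/
theorem parabolic_le_normalizer_high {x : Fin D.rank → ℝ} (hx : ∀ i, 0 ≤ x i) :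
    D.parabolicSubgroup K {j | ∃ hj : j < D.rank, x ⟨j, hj⟩ = 0} ≤
      Subgroup.normalizer (uGen D K (HighRoot D T x) : Set (GL D.Idx K)) := by
  refine sup_le (borel_le_normalizer_high hc hcomm hx) ((Subgroup.closure_le _).2 ?_)
  rintro g ⟨j, ⟨hj, hxj⟩, -, hg⟩
  set i : Fin D.rank := ⟨j, hj⟩
  have hgi : g = elN D K (D.simple i.val) 1 := by ext1; rw [coe_elN hc (simple_lt hc hj), hg]
  subst hgi
  have hval : ∀ s, s < D.nroots → valR D T x (sig D T i s) = valR D T x s := by
    intro s hs
    simp only [valR, rv_sig hc i hs, CfsgLib.Chev.refl, Pi.sub_apply]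
    refine Finset.sum_congr rfl fun k _ => ?_
    by_cases hk : k = i
    · subst hk; rw [hxj, mul_zero, mul_zero]
    · rw [Pi.single_eq_of_ne hk, sub_zero]
  have hmap : ∀ s, s < D.nroots → HighRoot D T x s → HighRoot D T x (sig D T i s) := fun s hs h =>
    ⟨pos_of_valR hc hx (sig_lt hc i hs) (by rw [hval s hs]; linarith [h.2]), by rw [hval s hs]; exact h.2⟩
  have hone : ∀ y ∈ uGen D K (HighRoot D T x),
      elN D K (D.simple i.val) 1 * y * (elN D K (D.simple i.val) 1)⁻¹ ∈ uGen D K (HighRoot D T x) := by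
    intro y hy
    have := ChevField.nProd_conj_uGen hc [i] (Q := HighRoot D T x) (fun s hs h => by
      show HighRoot D T x (sigs D T [i] s)
      exact hmap s hs h) hy
    simpa [nProd] using this
  rw [SetLike.mem_coe, Subgroup.mem_normalizer_iff]
  refine fun y => ⟨hone y, fun hy => ?_⟩
  obtain ⟨d, hd, e⟩ := nOne_inv hc (F := K) i
  have h2 := diag_conj_mem hc _ hd (hone _ hy)
  convert h2 using 1
  have e' : d = (elN D K (D.simple i.val) 1)⁻¹ * (elN D K (D.simple i.val) 1)⁻¹ :=
    calc d = d * elN D K (D.simple i.val) 1 * (elN D K (D.simple i.val) 1)⁻¹ := by group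
      _ = _ := by rw [← e]
  rw [e']
  group

end

end CfsgLib.ChevCent.Over
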