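import Mathlib

/-!
# A criterion for strongly embedded subgroups
-/

set_option autoImplicit false

namespace CfsgLib.ChevCent.Over

open scoped Pointwise

variable {G : Type*} [Group G]

theorem exists_normalizing [Finite G] {p : ℕ} [Fact p.Prime] {Q P : Subgroup G} (hP : IsPGroup p ↥P) (hQP : Q ≤ P)
    (hne : Q ≠ P) : ∃ g ∈ P, g ∉ Q ∧ g ∈ Subgroup.normalizer (Q : Set G) := by
  haveI : Group.IsNilpotent ↥P := hP.isNilpotent
  have hlt : Q.subgroupOf P < ⊤ := lt_top_iff_ne_top.2 fun h => hne (le_antisymm hQP (Subgroup.subgroupOf_eq_top.1 h))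
  have h2 : NormalizerCondition ↥P := normalizerCondition_of_isNilpotent
  obtain ⟨g, hgN, hgQ⟩ := SetLike.exists_of_lt (h2 _ hlt)
  refine ⟨g, g.2, fun h => hgQ (Subgroup.mem_subgroupOf.2 h), Subgroup.mem_normalizer_iff.2 fun y => ?_⟩
  have key := Subgroup.mem_normalizer_iff.1 hgN
  constructor
  · intro hy
    exact Subgroup.mem_subgroupOf.1 ((key ⟨y, hQP hy⟩).1 (Subgroup.mem_subgroupOf.2 hy))
  · intro hy
    have hyP : y ∈ P := by
      have := mul_mem (mul_mem (inv_mem g.2) (hQP hy)) g.2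
      convert this using 1
      group
    exact Subgroup.mem_subgroupOf.1 ((key ⟨y, hyP⟩).2 (Subgroup.mem_subgroupOf.2 hy))

theorem exists_conj_le [Finite G] {p : ℕ} [Fact p.Prime] {M Q P : Subgroup G} (hQM : Q ≤ M) (hQp : IsPGroup p ↥Q)
    (hmax : ∀ P : Subgroup G, IsPGroup p ↥P → Q ≤ P → P = Q) (hP : IsPGroup p ↥P) (hPM : P ≤ M) :
    ∃ m ∈ M, ∀ y ∈ P, m * y * m⁻¹ ∈ Q := by
  let S : Sylow p G := ⟨Q, hQp, fun {P} h h' => hmax P h h'⟩
  let SM : Sylow p ↥M := S.subtype hQM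
  obtain ⟨Q₁, hQ₁⟩ := (hP.comap_subtype (K := M)).exists_le_sylow
  obtain ⟨m, hm⟩ := MulAction.exists_smul_eq ↥M Q₁ SM
  refine ⟨m, m.2, fun y hy => ?_⟩
  have hy' : (⟨y, hPM hy⟩ : ↥M) ∈ (Q₁ : Subgroup ↥M) := hQ₁ hy
  have h2 : m * (⟨y, hPM hy⟩ : ↥M) * m⁻¹ ∈ (SM : Subgroup ↥M) := by
    rw [← hm, Sylow.coe_subgroup_smul, Subgroup.mem_pointwise_smul_iff_inv_smul_mem]
    simpa [MulAut.smul_def, mul_assoc] using hy'
  exact h2

/-- normalisers of non-trivial subgroups of a Sylow subgroup inside `M` make `M` strongly embedded -/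
theorem strongly_embedded [Finite G] {p : ℕ} [Fact p.Prime] {M Q : Subgroup G} (hQM : Q ≤ M) (hQp : IsPGroup p ↥Q)
    (hmax : ∀ P : Subgroup G, IsPGroup p ↥P → Q ≤ P → P = Q)
    (hN : ∀ R : Subgroup G, R ≤ Q → R ≠ ⊥ → Subgroup.normalizer (R : Set G) ≤ M)
    {x : G} (hx : x ∈ M) (hx1 : x ≠ 1) (hxp : IsPGroup p ↥(Subgroup.zpowers x)) {g : G}
    (hg : g * x * g⁻¹ ∈ M) : g ∈ M := by
  classical
  by_contra hgM
  -- a pair `(R, h)` with `R ≤ Q ∩ hQh⁻¹` and `h ∉ M`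
  let S : Set (Subgroup G) := {R | R ≤ Q ∧ R ≠ ⊥ ∧ ∃ h, h ∉ M ∧ ∀ r ∈ R, h⁻¹ * r * h ∈ Q}
  have hS : S.Nonempty := by
    obtain ⟨m₁, hm₁, h1⟩ := exists_conj_le hQM hQp hmax hxp (Subgroup.zpowers_le.2 hx)
    have hyp : IsPGroup p ↥(Subgroup.zpowers (g * x * g⁻¹)) := by
      have := hxp.map (MulAut.conj g).toMonoidHom
      rwa [MonoidHom.map_zpowers] at this
    obtain ⟨m, hm, h2⟩ := exists_conj_le hQM hQp hmax hyp (Subgroup.zpowers_le.2 hg)
    refine ⟨(Subgroup.zpowers (g * x * g⁻¹)).map (MulAut.conj m).toMonoidHom, ?_, ?_, m * g * m₁⁻¹, ?_, ?_⟩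
    · rintro _ ⟨y, hy, rfl⟩
      simpa using h2 y hy
    · rw [Ne, Subgroup.map_eq_bot_iff_of_injective _ (MulAut.conj m).injective, Subgroup.zpowers_eq_bot]
      simpa using hx1
    · intro h
      refine hgM ?_
      have := mul_mem (mul_mem (inv_mem hm) h) hm₁
      convert this using 1
      group
    · rintro _ ⟨_, ⟨k, rfl⟩, rfl⟩
      have := h1 (x ^ k) ⟨k, rfl⟩
      convert this using 1
      simp only [MulEquiv.coe_toMonoidHom, MulAut.conj_apply, conj_zpow]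
      group
  obtain ⟨R, ⟨hRQ, hR1, h, hhM, hRh⟩, hRmax⟩ :=
    Set.Finite.exists_maximalFor (fun R : Subgroup G => Nat.card ↥R) S (Set.toFinite S) hS
  set P := Q.map (MulAut.conj h).toMonoidHom with hPdef
  have hPp : IsPGroup p ↥P := hQp.map _
  have hRP : R ≤ P := fun r hr => ⟨h⁻¹ * r * h, hRh r hr, by simp [mul_assoc]⟩
  by_cases hRPe : R = P
  · have hPQ : P = Q := by
      refine Subgroup.eq_of_le_of_card_ge (hRPe ▸ hRQ) ?_
      rw [hPdef, Subgroup.card_map_of_injective (MulAut.conj h).injective]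
    exact hhM (hN Q le_rfl (ne_bot_of_le_ne_bot hR1 hRQ) (Subgroup.mem_normalizer_iff.2 fun y => ⟨fun hy => hPQ ▸ ⟨y, hy, by simp⟩,
      fun hy => by
        obtain ⟨z, hz, e⟩ := (hPQ.symm ▸ hy : h * y * h⁻¹ ∈ P)
        have : z = y := by simpa using e
        exact this ▸ hz⟩))
  obtain ⟨t, htP, htR, htN⟩ := exists_normalizing hPp hRP hRPe
  set R' := R ⊔ Subgroup.zpowers t
  have hR'P : R' ≤ P := sup_le hRP (Subgroup.zpowers_le.2 htP)
  have hR'M : R' ≤ M := sup_le (hRQ.trans hQM) (Subgroup.zpowers_le.2 (hN R hRQ hR1 htN))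
  have hR'p : IsPGroup p ↥R' := hPp.to_le hR'P
  obtain ⟨m, hm, hmQ⟩ := exists_conj_le hQM hQp hmax hR'p hR'M
  have hmem : R'.map (MulAut.conj m).toMonoidHom ∈ S := by
    refine ⟨?_, ?_, m * h, fun h' => hhM (by
      have := mul_mem (inv_mem hm) h'
      rwa [inv_mul_cancel_left] at this), ?_⟩
    · rintro _ ⟨y, hy, rfl⟩; simpa using hmQ y hy
    · rw [Ne, Subgroup.map_eq_bot_iff_of_injective _ (MulAut.conj m).injective]
      exact ne_bot_of_le_ne_bot hR1 le_sup_left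
    · rintro _ ⟨y, hy, rfl⟩
      obtain ⟨z, hz, e⟩ := hR'P hy
      simp only [MulEquiv.coe_toMonoidHom, MulAut.conj_apply] at e ⊢
      rw [← e, show (m * h)⁻¹ * (m * (h * z * h⁻¹) * m⁻¹) * (m * h) = z by group]
      exact hz
  have hlt : R < R' := lt_of_le_of_ne le_sup_left fun e => htR (e.symm ▸ Subgroup.mem_sup_right (Subgroup.mem_zpowers t))
  have hcard : Nat.card ↥R < Nat.card ↥(R'.map (MulAut.conj m).toMonoidHom) := by
    rw [Subgroup.card_map_of_injective (MulAut.conj m).injective]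
    by_contra hle
    exact hlt.ne (Subgroup.eq_of_le_of_card_ge hlt.le (not_lt.1 hle))
  exact absurd (hRmax hmem hcard.le) (not_le.2 hcard)

/-- in a finite group two involutions generate a dihedral group: they are conjugate or centralise a third -/
theorem involution_pair [Finite G] {x y : G} (hx : x * x = 1) (hy : y * y = 1) :
    (∃ g : G, g * x * g⁻¹ = y) ∨ ∃ c : G, c ≠ 1 ∧ c * c = 1 ∧ Commute c x ∧ Commute c y := by
  set d := x * y with hd
  have hxi : x⁻¹ = x := inv_eq_of_mul_eq_one_left hx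
  have hyi : y⁻¹ = y := inv_eq_of_mul_eq_one_left hy
  have hdx : x * d * x⁻¹ = d⁻¹ := by rw [hd, mul_inv_rev, hyi, hxi, ← mul_assoc x x y, hx, one_mul]
  have hdy : y * d * y⁻¹ = d⁻¹ := by
    rw [hd, mul_inv_rev, hyi, hxi, mul_assoc y, mul_assoc x y y, hy, mul_one]
  have hpos : 0 < orderOf d := orderOf_pos d
  rcases Nat.even_or_odd (orderOf d) with ⟨m, hm⟩ | ⟨m, hm⟩
  · refine Or.inr ⟨d ^ m, ?_, ?_, ?_, ?_⟩
    · intro h
      have := orderOf_dvd_of_pow_eq_one h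
      exact absurd (Nat.le_of_dvd (by omega) this) (by omega)
    · rw [← pow_add, ← hm, pow_orderOf_eq_one]
    all_goals
      have hinv : (d ^ m)⁻¹ = d ^ m := inv_eq_of_mul_eq_one_left (by rw [← pow_add, ← hm, pow_orderOf_eq_one])
    · have e : x * d ^ m * x⁻¹ = d ^ m := by rw [← conj_pow, hdx, inv_pow, hinv]
      exact (mul_inv_eq_iff_eq_mul.1 e).symm
    · have e : y * d ^ m * y⁻¹ = d ^ m := by rw [← conj_pow, hdy, inv_pow, hinv]
      exact (mul_inv_eq_iff_eq_mul.1 e).symm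
  · refine Or.inl ⟨d ^ m, ?_⟩
    have e : x * (d ^ m)⁻¹ = d ^ m * x := by
      have e0 : x * d ^ m * x⁻¹ = (d ^ m)⁻¹ := by rw [← conj_pow, hdx, inv_pow]
      rw [← mul_inv_eq_iff_eq_mul, show x * (d ^ m)⁻¹ * x⁻¹ = (x * d ^ m * x⁻¹)⁻¹ by group, e0, inv_inv]
    have e2 : (d ^ m) * x * (d ^ m)⁻¹ = d ^ m * (d ^ m * x) := by rw [mul_assoc, e]
    have h1 : d * (d ^ m * d ^ m) = 1 := by
      rw [← pow_add, ← pow_succ', show m + m + 1 = orderOf d by omega, pow_orderOf_eq_one]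
    rw [e2, ← mul_assoc, eq_inv_of_mul_eq_one_right h1, hd, mul_inv_rev, hyi, hxi, mul_assoc, hx, mul_one]

end CfsgLib.ChevCent.Over
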