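import Cfsg.Agent.Lib.ChevCent.Over.Parabolic
import Cfsg.Agent.Lib.ChevCent.Over.Strong

/-!
# A finite overgroup with fixed unipotent part has a strongly `p`-embedded fixed-point subgroup
-/

set_option autoImplicit false
set_option linter.unusedSectionVars false

namespace CfsgLib.ChevCent.Over

open Cfsg.Lie CfsgLib.Chev CfsgLib.ChevField

variable {D : ChevalleyDatum} {T : Tabs} {K : Type*} [Field K]

/-- a finite group between the root elements with fixed coefficients and the group -/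
structure Setting (D : ChevalleyDatum) (K : Type*) [Field K] (σ : K →+* K) (H : Subgroup (GL D.Idx K)) : Prop where
  finite : Finite ↥H
  le_group : H ≤ D.group K
  root : ∀ r < D.nroots, ∀ a : K, σ a = a → elX D K r a ∈ H

/-- the hypotheses on the certificate data -/
structure Base (D : ChevalleyDatum) (T : Tabs) (K : Type*) [Field K] (Z : List ℕ) : Prop where
  checked : Checked D T
  comm : CommOne D T
  link : linkTest D = true
  cen : CenOK D K Z
  wit : WitOK D K Z

/-- central parts normalised into `H` by all root elements with coefficient one are fixed -/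
def ExtOK (D : ChevalleyDatum) (K : Type*) [Field K] (σ : K →+* K) (H : Subgroup (GL D.Idx K)) (Z : List ℕ) : Prop :=
  ∀ t : ℕ → K, (∀ r, r ∉ Z → t r = 0) →
    (∀ s < D.nroots, uProd D K (rootsFrom D (PosR D) 0) t * elX D K s 1 *
      (uProd D K (rootsFrom D (PosR D) 0) t)⁻¹ ∈ H) →
    glMap D σ (uProd D K (rootsFrom D (PosR D) 0) t) = uProd D K (rootsFrom D (PosR D) 0) t

section
variable {σ : K →+* K} {H : Subgroup (GL D.Idx K)} {Z : List ℕ}
variable (hB : Base D T K Z) (hS : Setting D K σ H)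
variable (hU : ∀ h ∈ H, h ∈ UP D K → glMap D σ h = h) (hE : ExtOK D K σ H Z)
include hB hS

/-- the group generated by the root elements with fixed coefficients is normalised by fixed elements -/
theorem fixed_normalizes {g : GL D.Idx K} (hg : g ∈ D.group K) (hσ : glMap D σ g = g) {r : ℕ} (hr : r < D.nroots) :
    g * elX D K r 1 * g⁻¹ ∈ H := by
  set G0 := Subgroup.closure {y : GL D.Idx K | ∃ r a, r < D.nroots ∧ σ a = a ∧ y = elX D K r a}
  have hle : G0 ≤ H := (Subgroup.closure_le _).2 fun y ⟨r, a, hr, ha, e⟩ => e ▸ hS.root r hr a ha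
  have hfix : ∀ y ∈ G0, glMap D σ y = y := by
    intro y hy
    induction hy using Subgroup.closure_induction with
    | mem y hy => obtain ⟨r, a, hr, ha, rfl⟩ := hy; rw [glMap_elX hB.checked σ hr, ha]
    | one => exact map_one _
    | mul a b _ _ ha hb => rw [map_mul, ha, hb]
    | inv a _ ha => rw [map_inv, ha]
  have hn := (normalizer_iff_fixed hB.checked hB.comm σ (hle.trans hS.le_group)
    (fun r hr a ha => Subgroup.subset_closure ⟨r, a, hr, ha, rfl⟩) hfix hg).2 hσ
  exact hle ((Subgroup.mem_normalizer_iff.1 hn _).1 (Subgroup.subset_closure ⟨r, 1, hr, map_one σ, rfl⟩))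

theorem monomial_mem (L : List (Fin D.rank)) : nProd D K L ∈ H := by
  have hc := hB.checked
  refine Subgroup.list_prod_mem _ fun x hx => ?_
  obtain ⟨i, -, rfl⟩ := List.mem_map.1 hx
  have hp := simple_lt hc i.2
  rw [elN, inv_one]
  exact mul_mem (mul_mem (hS.root _ hp _ (map_one σ)) (hS.root _ (neg_lt hc hp) _ (by rw [map_neg, map_one])))
    (hS.root _ hp _ (map_one σ))

include hU hE

/-- the elements of `H` in a proper parabolic subgroup are fixed -/
theorem fixed_of_mem_parabolic {J : Set ℕ} (hJ : ∃ i, i < D.rank ∧ i ∉ J) {n : GL D.Idx K} (hn : n ∈ H)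
    (hnP : n ∈ D.parabolicSubgroup K J) : glMap D σ n = n := by
  have hc := hB.checked
  have hcomm := hB.comm
  have hP := parabolic_normalizes_radical hc hcomm (F := K) J
  have hOU : uGen D K (OutRoot D J) ≤ UP D K := uGen_mono fun r _ h => h.1
  -- twisted elements of `H` in the parabolic subgroup lie in `U`
  have hw : ∀ m ∈ H, m ∈ D.parabolicSubgroup K J → m⁻¹ * glMap D σ m ∈ UP D K := by
    intro m hm hmP
    refine mem_pos_of_centralize_out hc hcomm hB.link hJ
      (mul_mem (inv_mem (hS.le_group hm)) (glMap_group hc σ (hS.le_group hm))) fun r hr hR => ?_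
    have hx := hS.root r hr 1 (map_one σ)
    have e := hU _ (mul_mem (mul_mem hm hx) (inv_mem hm))
      (hOU ((Subgroup.mem_normalizer_iff.1 (hP hmP) _).1 (elX_mem_uGen hr (P := OutRoot D J) hR 1)))
    rw [map_mul, map_mul, map_inv, glMap_elX hc σ hr, map_one] at e
    have e' := congrArg (fun y => m⁻¹ * y * m) e
    refine Eq.trans ?_ (e'.trans ?_) <;> group
  obtain ⟨L0, hL0J, hL0⟩ := exists_longest_sub hc J
  set n0 := nProd D K L0
  have hn0P : n0 ∈ D.parabolicSubgroup K J := by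
    refine Subgroup.list_prod_mem _ fun y hy => ?_
    obtain ⟨i, hi, rfl⟩ := List.mem_map.1 hy
    exact elN_mem_parabolic hc (hL0J i hi)
  have hn0H : n0 ∈ H := monomial_mem hB hS L0
  set w := n⁻¹ * glMap D σ n with hwdef
  have hw1 : w ∈ UP D K := hw n hn hnP
  have hw2 : n0 * w * n0⁻¹ ∈ UP D K := by
    have := hw _ (mul_mem (mul_mem hn0H hn) (inv_mem hn0H)) (mul_mem (mul_mem hn0P hnP) (inv_mem hn0P))
    rw [map_mul, map_mul, map_inv, show glMap D σ n0 = n0 from glMap_nProd hc σ L0] at this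
    convert this using 1
    simp only [w]
    group
  have hwJ : w ∈ uGen D K (OutRoot D J) := by
    obtain ⟨a, ha, b, hb, hab⟩ := uGen_split hc hcomm (closedPos_pos hc) (Q := OutRoot D J)
      (R := fun r => PosR D r ∧ D.InRootSub J r)
      (fun r hr hp => by by_cases h : D.InRootSub J r; exacts [Or.inr ⟨hp, h⟩, Or.inl ⟨hp, h⟩]) hw1
    have hbn : n0 * b * n0⁻¹ ∈ uGen D K (fun r => r < D.nroots / 2) :=
      ChevField.nProd_conj_uGen hc L0 (fun r hr hP => hL0 r hr hP.1 hP.2) hb
    have hann : n0 * a * n0⁻¹ ∈ UP D K := hOU ((Subgroup.mem_normalizer_iff.1 (hP hn0P) a).1 ha)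
    have hbU : n0 * b * n0⁻¹ ∈ UP D K := by
      rw [show n0 * b * n0⁻¹ = (n0 * a * n0⁻¹)⁻¹ * (n0 * (a * b) * n0⁻¹) by group, ← hab]
      exact mul_mem (inv_mem hann) hw2
    rw [hab, conj_eq_one_iff.1 (borel_inf_neg hc (pos_le_borel hc hbU) hbn), mul_one]
    exact ha
  -- the Levi part is fixed
  obtain ⟨u, hu, l, hl, hnul⟩ : ∃ u ∈ uGen D K (OutRoot D J), ∃ l ∈ D.leviSubgroup K J, n = u * l := by
    have h := hnP
    rw [← (levi_decomposition hc hcomm J).2.1, ← SetLike.mem_coe,
      Subgroup.coe_mul_of_right_le_normalizer_left _ _ (le_trans (by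
        rw [← (levi_decomposition hc hcomm J).2.1]; exact le_sup_right) (levi_decomposition hc hcomm J).1)] at h
    obtain ⟨u, hu, l, hl, e⟩ := h
    rw [SetLike.mem_coe, unipotentRadical_eq hc] at hu
    exact ⟨u, hu, l, hl, e.symm⟩
  have hlP : l ∈ D.parabolicSubgroup K J := by
    rw [← (levi_decomposition hc hcomm J).2.1]; exact Subgroup.mem_sup_right hl
  have hσl : glMap D σ l ∈ D.leviSubgroup K J := by
    have hle : (D.leviSubgroup K J).map (glMap D σ) ≤ D.leviSubgroup K J := by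
      rw [levi_eq hc, Subgroup.map_sup]
      refine sup_le_sup ?_ ?_
      · rintro _ ⟨x, hx, rfl⟩; exact glMap_diagonal hc σ hx
      · rintro _ ⟨x, hx, rfl⟩; exact glMap_uGen hc σ hx
    exact hle (Subgroup.mem_map_of_mem _ hl)
  have hlfix : glMap D σ l = l := by
    have h1 : l⁻¹ * glMap D σ l ∈ D.unipotentRadical K J := by
      rw [unipotentRadical_eq hc]
      have h2 := (Subgroup.mem_normalizer_iff''.1 (hP hlP) _).1 (mul_mem (inv_mem hu) (glMap_uGen hc σ hu))
      have h3 := mul_mem (inv_mem h2) hwJ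
      convert h3 using 1
      simp only [w, hnul, map_mul]
      group
    have h4 : l⁻¹ * glMap D σ l ∈ (⊥ : Subgroup (GL D.Idx K)) := by
      rw [← radical_inf_levi hc (F := K) J]
      exact Subgroup.mem_inf.2 ⟨h1, mul_mem (inv_mem hl) hσl⟩
    exact (inv_mul_eq_one.1 (Subgroup.mem_bot.1 h4)).symm
  -- the unipotent part
  have hconj : ∀ s < D.nroots, u * elX D K s 1 * u⁻¹ ∈ H := by
    intro s hs
    have h1 := fixed_normalizes hB hS (g := l⁻¹)
      (inv_mem (by
        have := mul_mem (inv_mem (pos_le_group hc (hOU hu))) (hS.le_group hn)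
        rwa [hnul, inv_mul_cancel_left] at this))
      (by rw [map_inv, hlfix]) hs
    rw [show u * elX D K s 1 * u⁻¹ = n * (l⁻¹ * elX D K s 1 * l⁻¹⁻¹) * n⁻¹ by rw [hnul]; group]
    exact mul_mem (mul_mem hn h1) (inv_mem hn)
  obtain ⟨u₁, hu₁, hu₁fix, t, ht, e⟩ := exists_fixed_mul_central hc hcomm hB.cen hB.wit σ (hOU hu)
    (fun s hs hsp => hU _ (hconj s hs)
      (mul_mem (mul_mem (hOU hu) (elX_mem_uGen hs (P := PosR D) hsp 1)) (inv_mem (hOU hu))))
  have hu₁H : u₁ ∈ H := fixed_pos_mem hc hcomm σ hS.root hu₁ hu₁fix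
  have hz := hE t ht fun s hs => by
    have := mul_mem (mul_mem (inv_mem hu₁H) (hconj s hs)) hu₁H
    rw [e] at this
    convert this using 1
    group
  rw [hnul, map_mul, hlfix, e, map_mul, hu₁fix, hz]

/-- an element of `H` normalising a non-trivial subgroup of the unipotent part is fixed -/
theorem fixed_of_normalizes {R : Subgroup (GL D.Idx K)} (hRH : R ≤ H) (hRU : R ≤ UP D K) (hR : R ≠ ⊥)
    {n : GL D.Idx K} (hn : n ∈ H) (hnR : n ∈ Subgroup.normalizer (R : Set (GL D.Idx K))) : glMap D σ n = n := by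
  classical
  have hc := hB.checked
  have hcomm := hB.comm
  let x₀ : Fin D.rank → ℝ := fun _ => 1
  have h0 : Feasible D T R 1 x₀ := by
    refine ⟨one_mem _, fun _ => zero_le_one, fun k hk => ?_⟩
    rw [inv_one, one_mul, mul_one]
    refine uGen_mono (fun r hr hp => ⟨hp, ?_⟩) (hRU hk)
    obtain ⟨j, hj⟩ : ∃ j, rv D T r j ≠ 0 := by
      by_contra hh; push Not at hh; exact rv_ne_zero hc hr (funext hh)
    have hj1 : (1 : ℝ) ≤ (rv D T r j : ℝ) := by
      exact_mod_cast (lt_of_le_of_ne (rv_nonneg hc hr hp j) (Ne.symm hj))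
    refine le_trans (by simpa using hj1) (Finset.single_le_sum (f := fun i => (rv D T r i : ℝ) * (1 : ℝ))
      (fun i _ => mul_nonneg (by exact_mod_cast rv_nonneg hc hr hp i) zero_le_one) (Finset.mem_univ j))
  -- a minimiser
  obtain ⟨g, x, hgx, hmin⟩ : ∃ g x, Feasible D T R g x ∧
      ∀ g' x', Feasible D T R g' x' → quadR D T x ≤ quadR D T x' := by
    let good : Finset (Finset ℕ) := (Finset.range D.nroots).powerset.filter fun S =>
      ∃ g ∈ D.group K, (∀ r ∈ S, D.nroots / 2 ≤ r) ∧ ∀ k ∈ R, g⁻¹ * k * g ∈ uGen D K (fun r => r ∈ S)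
    let C : Set (Fin D.rank → ℝ) :=
      {x | quadR D T x ≤ quadR D T x₀} ∩ ⋃ S ∈ good, {x | (∀ i, 0 ≤ x i) ∧ ∀ r ∈ S, 1 ≤ valR D T x r}
    have hmem : ∀ g x, Feasible D T R g x → quadR D T x ≤ quadR D T x₀ → x ∈ C := by
      rintro g x ⟨hg, hx, hk⟩ hle
      refine ⟨hle, Set.mem_biUnion (x := (Finset.range D.nroots).filter fun r => HighRoot D T x r) ?_ ⟨hx, ?_⟩⟩
      · refine Finset.mem_filter.2 ⟨Finset.mem_powerset.2 (Finset.filter_subset _ _), g, hg,
          fun r hr => (Finset.mem_filter.1 hr).2.1, fun k hkR => uGen_mono (fun r hr h => ?_) (hk k hkR)⟩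
        exact Finset.mem_filter.2 ⟨Finset.mem_range.2 hr, h⟩
      · exact fun r hr => (Finset.mem_filter.1 hr).2.2
    have hcont : ∀ r, Continuous fun x : Fin D.rank → ℝ => valR D T x r := fun r => by
      unfold valR; fun_prop
    have hQc : Continuous fun x : Fin D.rank → ℝ => quadR D T x := by
      unfold quadR; exact continuous_finset_sum _ fun r _ => (hcont r).pow 2
    have hclosed : IsClosed C := by
      refine (isClosed_le hQc continuous_const).inter (Set.Finite.isClosed_biUnion good.finite_toSet fun S _ => ?_)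
      simp only [Set.setOf_and, Set.setOf_forall]
      exact (isClosed_iInter fun i => isClosed_le continuous_const (continuous_apply i)).inter
        (isClosed_iInter fun r => isClosed_iInter fun _ => isClosed_le continuous_const (hcont r))
    have hsub : C ⊆ Set.Icc (fun _ => -(quadR D T x₀ + 1)) (fun _ => quadR D T x₀ + 1) := by
      rintro x ⟨hle, -⟩
      have hb : ∀ i, |x i| ≤ quadR D T x₀ + 1 := fun i => by
        have h1 := le_trans (sq_le_quadR hc x i) hle
        nlinarith [sq_nonneg (|x i| - 1), sq_abs (x i), abs_nonneg (x i)]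
      exact ⟨fun i => (abs_le.1 (hb i)).1, fun i => (abs_le.1 (hb i)).2⟩
    obtain ⟨x, hxC, hxmin⟩ := (isCompact_Icc.of_isClosed_subset hclosed hsub).exists_isMinOn
      ⟨x₀, hmem _ _ h0 le_rfl⟩ hQc.continuousOn
    obtain ⟨hle, hxU⟩ := hxC
    simp only [Set.mem_iUnion, Set.mem_setOf_eq] at hxU
    obtain ⟨S, hS', hx0, hxS⟩ := hxU
    obtain ⟨-, g, hg, hSp, hSk⟩ := Finset.mem_filter.1 hS'
    refine ⟨g, x, ⟨hg, hx0, fun k hk => uGen_mono (fun r _ hr => ⟨hSp r hr, hxS r hr⟩) (hSk k hk)⟩, fun g' x' h' => ?_⟩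
    by_cases hq : quadR D T x' ≤ quadR D T x₀
    · exact hxmin (hmem g' x' h' hq)
    · exact le_trans hle (le_of_lt (not_le.1 hq))
  obtain ⟨hgG, hx, hgR⟩ := hgx
  set J : Set ℕ := {j | ∃ hj : j < D.rank, x ⟨j, hj⟩ = 0} with hJ
  have hPN := parabolic_le_normalizer_high hc hcomm hx (K := K)
  have move : ∀ {k b : GL D.Idx K}, Feasible D T R k x → b ∈ D.parabolicSubgroup K J → b ∈ D.group K →
      Feasible D T R (k * b) x := by
    rintro k b ⟨hk, -, hkR⟩ hb hbG
    refine ⟨mul_mem hk hbG, hx, fun y hy => ?_⟩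
    have := (Subgroup.mem_normalizer_iff''.1 (hPN hb) _).1 (hkR y hy)
    convert this using 1
    group
  -- replace the conjugating element by `u₁ n_L` with `u₁` in a group meeting the parabolic subgroup trivially
  obtain ⟨L, u, d, v, hu, hd, hv, e⟩ := ChevField.exists_bruhat hc hcomm hgG
  set nL := nProd D K L
  obtain ⟨dL, hdL, einv⟩ := nProd_inv hc (F := K) L
  have hb : v⁻¹ * (nL⁻¹ * d⁻¹ * nL) ∈ D.borelSubgroup K := by
    refine mul_mem (inv_mem (pos_le_borel hc (uGen_mono (fun r _ hP => hP.1) hv))) (diagonal_le_borel hc ?_)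
    have h1 := nProd_conj_diagonal hc L.reverse (inv_mem hd)
    have h2 := mul_mem (mul_mem hdL h1) (inv_mem hdL)
    convert h2 using 1
    rw [show nL⁻¹ * d⁻¹ * nL = nL⁻¹ * d⁻¹ * nL⁻¹⁻¹ by group, einv]
    group
  have hf1 : Feasible D T R (u * nL) x := by
    have := move ⟨hgG, hx, hgR⟩ (Subgroup.mem_sup_left hb) (borel_le_group hc hb)
    convert this using 1
    rw [e]; group
  obtain ⟨u₁, hu₁, u₂, hu₂, hu12⟩ := uGen_split hc hcomm (closedPos_pos hc)
    (Q := fun r => PosR D r ∧ NegOut D J (sigs D T L.reverse r))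
    (R := fun r => PosR D r ∧ ParRoot D J (sigs D T L.reverse r))
    (fun r hr hp => by
      by_cases h1 : PosR D (sigs D T L.reverse r)
      · exact Or.inr ⟨hp, Or.inl h1⟩
      by_cases h2 : D.InRootSub J (sigs D T L.reverse r)
      · exact Or.inr ⟨hp, Or.inr h2⟩
      have hw := sigs_lt hc L.reverse hr (T := T)
      refine Or.inl ⟨hp, ?_, fun h3 => h2 ?_⟩
      · have := neg_eq hc hw; have := nroots_eq_two_mul hc
        simp only [PosR] at h1; omega
      · have := inRootSub_neg hc (neg_lt hc hw) h3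
        rwa [neg_neg_root hc hw] at this) hu
  have hrev : ∀ {P : ℕ → Prop} {y : GL D.Idx K}, y ∈ uGen D K (fun r => PosR D r ∧ P (sigs D T L.reverse r)) →
      nL⁻¹ * y * nL ∈ uGen D K P := by
    intro P y hy
    have h := diag_conj_mem hc P hdL (ChevField.nProd_conj_uGen hc L.reverse (Q := P) (fun r _ h => h.2) hy)
    convert h using 1
    rw [show nL⁻¹ * y * nL = nL⁻¹ * y * nL⁻¹⁻¹ by group, einv]
    group
  have hu₂P : nL⁻¹ * u₂ * nL ∈ D.parabolicSubgroup K J := by
    rw [parabolic_gen hc]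
    exact Subgroup.mem_sup_right (hrev hu₂)
  have hu₁U : u₁ ∈ UP D K := uGen_mono (fun r _ h => h.1) hu₁
  have hu₂U : u₂ ∈ UP D K := uGen_mono (fun r _ h => h.1) hu₂
  have hnLG : nL ∈ D.group K := monomial_le_group hc (nProd_mem_monomial hc L)
  have hf2 : Feasible D T R (u₁ * nL) x := by
    have := move hf1 (inv_mem hu₂P) (inv_mem (mul_mem (mul_mem (inv_mem hnLG) (pos_le_group hc hu₂U)) hnLG))
    convert this using 1
    rw [hu12]; group
  set k := u₁ * nL with hk
  -- it is fixed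
  have hRfix : ∀ y ∈ R, glMap D σ y = y := fun y hy => hU y (hRH hy) (hRU hy)
  have hfσ : Feasible D T R (glMap D σ k) x := by
    refine ⟨glMap_group hc σ hf2.1, hx, fun y hy => ?_⟩
    have := glMap_uGen hc σ (hf2.2.2 y hy)
    rwa [map_mul, map_mul, map_inv, hRfix y hy] at this
  have hu₁fix : glMap D σ u₁ = u₁ := by
    have hPm := minimiser_unique hc hcomm hf2 hfσ hmin
    have e1 : k⁻¹ * glMap D σ k = nL⁻¹ * (u₁⁻¹ * glMap D σ u₁) * nL := by
      rw [hk, map_mul, show glMap D σ nL = nL from glMap_nProd hc σ L]; group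
    rw [e1] at hPm
    have h1 := eq_one_of_mem_parabolic_negOut hc hcomm hPm (hrev (mul_mem (inv_mem hu₁) (glMap_uGen hc σ hu₁)))
    have h2 : u₁⁻¹ * glMap D σ u₁ = 1 := by
      have := congrArg (fun y => nL * y * nL⁻¹) h1
      simpa [mul_assoc] using this
    exact (inv_mul_eq_one.1 h2).symm
  have hkH : k ∈ H := mul_mem (fixed_pos_mem hc hcomm σ hS.root hu₁U hu₁fix) (monomial_mem hB hS L)
  have hkfix : glMap D σ k = k := by
    rw [hk, map_mul, hu₁fix, show glMap D σ nL = nL from glMap_nProd hc σ L]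
  have hfn : Feasible D T R (n * k) x := ⟨mul_mem (hS.le_group hn) hf2.1, hx, fun y hy => by
    have h1 := hf2.2.2 _ ((Subgroup.mem_normalizer_iff''.1 hnR y).1 hy)
    convert h1 using 1
    group⟩
  have hJproper : ∃ i, i < D.rank ∧ i ∉ J := by
    by_contra hall
    push Not at hall
    refine hR (eq_bot_iff.2 fun y hy => ?_)
    have hbot : uGen D K (HighRoot D T x) = ⊥ := by
      rw [eq_bot_iff, uGen_le_iff]
      intro r hr h
      have h0 : valR D T x r = 0 := Finset.sum_eq_zero fun j _ => by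
        obtain ⟨_, e0⟩ := hall j j.2
        rw [show x j = 0 from e0, mul_zero]
      linarith [h.2]
    have h1 := hf2.2.2 y hy
    rw [hbot, Subgroup.mem_bot] at h1
    rw [Subgroup.mem_bot, show y = k * (k⁻¹ * y * k) * k⁻¹ by group, h1]
    group
  have hfin := fixed_of_mem_parabolic hB hS hU hE hJproper (mul_mem (mul_mem (inv_mem hkH) hn) hkH) (by
    have := minimiser_unique hc hcomm hf2 hfn hmin
    rwa [← mul_assoc] at this)
  rw [map_mul, map_mul, map_inv, hkfix] at hfin
  exact mul_left_cancel (mul_right_cancel hfin)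

/-- the unipotent part is a maximal `p`-subgroup -/
theorem pos_maximal (p : ℕ) [Fact p.Prime] [CharP K p] {P : Subgroup (GL D.Idx K)} (hP : IsPGroup p ↥P)
    (hPH : P ≤ H) (hQP : H ⊓ UP D K ≤ P) : P = H ⊓ UP D K := by
  have hc := hB.checked
  have hcomm := hB.comm
  haveI := hS.finite
  by_contra hne
  haveI : Finite ↥P := Finite.of_injective _ (Subgroup.inclusion_injective hPH)
  have hlt : (H ⊓ UP D K).subgroupOf P < ⊤ :=
    lt_top_iff_ne_top.2 fun h => hne (le_antisymm (Subgroup.subgroupOf_eq_top.1 h) hQP)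
  haveI : Group.IsNilpotent ↥P := hP.isNilpotent
  obtain ⟨g, hgN, hgQ⟩ := SetLike.exists_of_lt ((normalizerCondition_of_isNilpotent : NormalizerCondition ↥P) _ hlt)
  refine hgQ (Subgroup.mem_subgroupOf.2 ⟨hPH g.2, ?_⟩)
  have hgB : (g : GL D.Idx K) ∈ D.borelSubgroup K := by
    refine mem_borel_of_simples hc hcomm (hS.le_group (hPH g.2)) fun i => ?_
    have hx : elX D K (D.simple i.val) 1 ∈ H ⊓ UP D K :=
      ⟨hS.root _ (simple_lt hc i.2) _ (map_one σ),
        elX_mem_uGen (simple_lt hc i.2) (P := PosR D) (half_le_simple hc i.2) 1⟩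
    have h1 := (Subgroup.mem_normalizer_iff.1 hgN ⟨_, hQP hx⟩).1 (Subgroup.mem_subgroupOf.2 hx)
    exact (Subgroup.mem_subgroupOf.1 h1).2
  obtain ⟨u, hu, t, ht, hut⟩ := (mem_borel hc).1 hgB
  obtain ⟨k, hk⟩ := hP g
  have hk' : (g : GL D.Idx K) ^ p ^ k = 1 := by rw [← SubgroupClass.coe_pow, hk, Subgroup.coe_one]
  have hpow : ∀ j : ℕ, ∃ y ∈ UP D K, (g : GL D.Idx K) ^ j = y * t ^ j := by
    intro j
    induction j with
    | zero => exact ⟨1, one_mem _, by simp⟩
    | succ j ih =>
      obtain ⟨y, hy, ey⟩ := ih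
      refine ⟨u * (t * y * t⁻¹), mul_mem hu (diag_conj_mem hc _ ht hy), ?_⟩
      rw [pow_succ', ey, hut, pow_succ']; group
  obtain ⟨y, hy, ey⟩ := hpow (p ^ k)
  rw [hk'] at ey
  have htk : t ^ p ^ k = 1 := pos_inf_diag hc (by
    rw [eq_inv_of_mul_eq_one_right ey.symm]; exact inv_mem hy) (pow_mem ht _)
  obtain ⟨c, hcc⟩ := (mem_diagonal hc).1 ht
  have hχ : hPar D K c = 1 := by
    rw [← hcc, ← map_pow] at htk
    have h2 := torus_injective hc (htk.trans (map_one _).symm)
    funext i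
    refine Units.ext (sub_eq_zero.1 (pow_eq_zero_iff (pow_ne_zero k (Fact.out : p.Prime).ne_zero) |>.1 ?_))
    rw [sub_pow_char_pow, Pi.one_apply, Units.val_one, one_pow, ← Units.val_pow_eq_pow_val,
      show hPar D K c i ^ p ^ k = 1 from congrFun h2 i, Units.val_one, sub_self]
  rw [hut, ← hcc, hχ, map_one, mul_one]
  exact hu

/-- the fixed points are strongly `p`-embedded -/
theorem fixed_strongly_embedded (p : ℕ) [Fact p.Prime] [CharP K p] {x h : GL D.Idx K} (hx : x ∈ H) (hx1 : x ≠ 1)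
    (hxp : ∃ k : ℕ, x ^ p ^ k = 1) (hxfix : glMap D σ x = x) (hh : h ∈ H)
    (hconj : glMap D σ (h * x * h⁻¹) = h * x * h⁻¹) : glMap D σ h = h := by
  haveI := hS.finite
  have hc := hB.checked
  let M : Subgroup ↥H := ((glMap D σ).comp H.subtype).eqLocus H.subtype
  let Q : Subgroup ↥H := (UP D K).subgroupOf H
  have hQM : Q ≤ M := fun y hy => hU y y.2 hy
  have hQp : IsPGroup p ↥Q := (isPGroup_pos hc p).comap_subtype
  have hmax : ∀ P : Subgroup ↥H, IsPGroup p ↥P → Q ≤ P → P = Q := by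
    intro P hP hQP
    have h1 := pos_maximal hB hS hU hE p (P := P.map H.subtype) (hP.map _) (Subgroup.map_subtype_le P)
      (fun y hy => ⟨⟨y, hy.1⟩, hQP (Subgroup.mem_subgroupOf.2 hy.2), rfl⟩)
    refine le_antisymm (fun y hy => ?_) hQP
    exact (h1 ▸ ⟨y, hy, rfl⟩ : (y : GL D.Idx K) ∈ H ⊓ UP D K).2
  have hN : ∀ R : Subgroup ↥H, R ≤ Q → R ≠ ⊥ → Subgroup.normalizer (R : Set ↥H) ≤ M := by
    intro R hRQ hR n hn
    refine fixed_of_normalizes hB hS hU hE (R := R.map H.subtype) (Subgroup.map_subtype_le R)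
      (by rintro _ ⟨y, hy, rfl⟩; exact hRQ hy)
      (fun e => hR ((Subgroup.map_eq_bot_iff_of_injective _ H.subtype_injective).1 e)) n.2
      (Subgroup.mem_normalizer_iff.2 fun y => ?_)
    constructor
    · rintro ⟨z, hz, rfl⟩
      exact ⟨n * z * n⁻¹, (Subgroup.mem_normalizer_iff.1 hn z).1 hz, rfl⟩
    · rintro ⟨z, hz, e⟩
      refine ⟨n⁻¹ * z * n, (Subgroup.mem_normalizer_iff''.1 hn z).1 hz, ?_⟩
      simp only [map_mul, map_inv, e, Subgroup.coe_subtype]
      group
  have hxp' : IsPGroup p ↥(Subgroup.zpowers (⟨x, hx⟩ : ↥H)) := by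
    obtain ⟨k, hk⟩ := hxp
    obtain ⟨j, -, hj⟩ := (Nat.dvd_prime_pow Fact.out).1
      (orderOf_dvd_of_pow_eq_one (show (⟨x, hx⟩ : ↥H) ^ p ^ k = 1 from Subtype.ext hk))
    exact IsPGroup.of_card (n := j) (by rw [Nat.card_zpowers, hj])
  exact strongly_embedded hQM hQp hmax hN (x := (⟨x, hx⟩ : ↥H)) hxfix
    (fun e => hx1 (congrArg Subtype.val e)) hxp' (g := (⟨h, hh⟩ : ↥H)) hconj

end

end CfsgLib.ChevCent.Over
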