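import Cfsg.Agent.Lib.ChevCent.Over.Dichotomy
import Mathlib.FieldTheory.Finite.GaloisField
import Mathlib.FieldTheory.IsAlgClosed.AlgebraicClosure

/-!
# Subgroups between the groups over finite fields
-/

set_option autoImplicit false
set_option linter.unusedSectionVars false

namespace CfsgLib.ChevCent.Over

open Cfsg.Lie CfsgLib.Chev CfsgLib.ChevField Polynomial

variable {K : Type*} [Field K]

/-- the fixed points of a power map, as a subfield -/
def fixedOf (σ : K →+* K) : Subfield K := RingHom.eqLocusField σ (RingHom.id K)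

theorem mem_fixedOf {σ : K →+* K} {a : K} : a ∈ fixedOf σ ↔ σ a = a := Iff.rfl

/-- the power map -/
noncomputable def powMap (K : Type*) [Field K] (p : ℕ) [Fact p.Prime] [CharP K p] (n : ℕ) : K →+* K :=
  iterateFrobenius K p n

theorem powMap_apply (p : ℕ) [Fact p.Prime] [CharP K p] (n : ℕ) (x : K) : powMap K p n x = x ^ p ^ n := rfl

theorem card_fixed_alg_closed [IsAlgClosed K] (p : ℕ) [Fact p.Prime] [CharP K p] {n : ℕ} (hn : 1 ≤ n) :
    Nat.card {x : K | x ^ p ^ n = x} = p ^ n := by
  classical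
  have hN : 1 < p ^ n := Nat.one_lt_pow (by omega) (Fact.out : p.Prime).one_lt
  have hne : (X ^ p ^ n - X : K[X]) ≠ 0 := FiniteField.X_pow_card_sub_X_ne_zero K hN
  have hset : {x : K | x ^ p ^ n = x} = (X ^ p ^ n - X : K[X]).rootSet K := by
    ext x
    rw [Polynomial.mem_rootSet]
    simp [hne, sub_eq_zero]
  rw [hset, Nat.card_eq_fintype_card,
    Polynomial.card_rootSet_eq_natDegree (galois_poly_separable p _ (dvd_pow_self p (by omega)))
      (IsAlgClosed.splits _), FiniteField.X_pow_card_sub_X_natDegree_eq K hN]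

theorem card_fixed_finite [Fintype K] (p : ℕ) [Fact p.Prime] [CharP K p] {a r : ℕ} (ha : 1 ≤ a) (hr : 1 ≤ r)
    (hK : Fintype.card K = (p ^ a) ^ r) : Nat.card {x : K | x ^ p ^ a = x} = p ^ a := by
  classical
  let E := AlgebraicClosure K
  haveI : CharP E p := charP_of_injective_algebraMap (algebraMap K E).injective p
  let ι := algebraMap K E
  have hbig : Set.range ι = {y : E | y ^ p ^ (a * r) = y} := by
    have hc := card_fixed_alg_closed (K := E) p (n := a * r) (Nat.one_le_iff_ne_zero.2 (mul_ne_zero (by omega) (by omega)))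
    haveI : Finite {y : E | y ^ p ^ (a * r) = y} :=
      Nat.finite_of_card_ne_zero (by rw [hc]; exact pow_ne_zero _ (Fact.out : p.Prime).ne_zero)
    refine Set.eq_of_subset_of_ncard_le ?_ (le_of_eq ?_) (Set.toFinite _)
    · rintro _ ⟨x, rfl⟩
      show ι x ^ _ = ι x
      rw [← map_pow, pow_mul, ← hK, FiniteField.pow_card]
    · rw [← Nat.card_coe_set_eq, hc, Set.ncard_range_of_injective ι.injective, Nat.card_eq_fintype_card, hK, pow_mul]
  refine Eq.trans (Nat.card_eq_of_bijective (fun x : {x : K | x ^ p ^ a = x} => (⟨ι x.1, by show ι x.1 ^ _ = ι x.1; rw [← map_pow, x.2]⟩ : {y : E | y ^ p ^ a = y})) ⟨fun x y h => ?_, fun y => ?_⟩) (card_fixed_alg_closed (K := E) p ha)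
  · exact Subtype.ext (ι.injective (congrArg Subtype.val h :))
  · have hy : (y : E) ^ p ^ (a * r) = y := by
      have key : ∀ j, (y : E) ^ p ^ (a * j) = y := by
        intro j
        induction j with
        | zero => simp
        | succ j ih => rw [Nat.mul_succ, pow_add, pow_mul, ih, y.2]
      exact key r
    obtain ⟨x, hx⟩ : (y : E) ∈ Set.range ι := by rw [hbig]; exact hy
    refine ⟨⟨x, ι.injective ?_⟩, Subtype.ext hx⟩
    rw [map_pow, hx, y.2]

theorem card_fixedOf (p : ℕ) [Fact p.Prime] [CharP K p] {n : ℕ} (h : Nat.card {x : K | x ^ p ^ n = x} = p ^ n) :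
    Nat.card (fixedOf (powMap K p n)) = p ^ n := by
  refine Eq.trans (Nat.card_congr (Equiv.subtypeEquivRight fun x => ?_)) h
  rw [mem_fixedOf, powMap_apply]
  rfl

theorem card_subfield {A B : Subfield K} [Finite A] [Finite B] (h : A ≤ B) :
    ∃ m : ℕ, Nat.card B = Nat.card A ^ m := by
  letI := Fintype.ofFinite A
  letI := Fintype.ofFinite B
  letI : Algebra A B := (Subfield.inclusion h).toAlgebra
  refine ⟨Module.finrank A B, ?_⟩
  rw [Nat.card_eq_fintype_card, Nat.card_eq_fintype_card]
  exact Module.card_eq_pow_finrank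

theorem subfield_eq_roots {B : Subfield K} [Finite B] (x : K) (hx : x ^ Nat.card B = x) : x ∈ B := by
  classical
  letI := Fintype.ofFinite B
  have hN : 1 < Nat.card B := Finite.one_lt_card
  set f : K[X] := X ^ Nat.card B - X
  have hne : f ≠ 0 := FiniteField.X_pow_card_sub_X_ne_zero K hN
  have hsub : ∀ b : B, (b : K) ∈ f.roots.toFinset := fun b => by
    have h1 : (b : K) ^ Nat.card B = b := by
      rw [Nat.card_eq_fintype_card]
      exact_mod_cast congrArg (Subtype.val : B → K) (FiniteField.pow_card b)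
    rw [Multiset.mem_toFinset, mem_roots hne, IsRoot.def]
    simp only [f, eval_sub, eval_pow, eval_X, h1, sub_self]
  have hle : f.roots.toFinset ⊆ Finset.univ.image (fun b : B => (b : K)) := by
    refine (Finset.eq_of_subset_of_card_le (fun y hy => ?_) ?_).symm.subset
    · obtain ⟨b, -, rfl⟩ := Finset.mem_image.1 hy; exact hsub b
    · rw [Finset.card_image_of_injective _ Subtype.val_injective, Finset.card_univ]
      refine le_trans (Multiset.toFinset_card_le _) (le_trans (card_roots' _) ?_)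
      rw [FiniteField.X_pow_card_sub_X_natDegree_eq K hN, Nat.card_eq_fintype_card]
  have hxr : x ∈ f.roots.toFinset := by
    rw [Multiset.mem_toFinset, mem_roots hne, IsRoot.def]; simp only [f, eval_sub, eval_pow, eval_X, hx, sub_self]
  obtain ⟨b, -, rfl⟩ := Finset.mem_image.1 (hle hxr)
  exact b.2

section
variable {D : ChevalleyDatum} (hD : D ∈ [chevG2, chevB2, chevD4, chevF4, chevE6, chevE7, chevE8])
include hD

omit hD in
theorem fixed_iff (σ : K →+* K) (g : GL D.Idx K) :
    glMap D σ g = g ↔ ∀ i j, σ ((g : Matrix D.Idx D.Idx K) i j) = (g : Matrix D.Idx D.Idx K) i j :=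
  ⟨fun h i j => congrArg (fun y : GL D.Idx K => (y : Matrix D.Idx D.Idx K) i j) h,
    fun h => Units.ext (Matrix.ext fun i j => h i j)⟩

/-- a subfield subgroup of prime degree is maximal -/
theorem subfield_maximal [Fintype K] (p : ℕ) [Fact p.Prime] [CharP K p] (a r : ℕ) (ha : 1 ≤ a) (hr : r.Prime)
    (hK : Fintype.card K = (p ^ a) ^ r) {M : Subgroup (GL D.Idx K)}
    (hM : ∀ g : GL D.Idx K, g ∈ M ↔ g ∈ D.group K ∧ ∀ i j : D.Idx,
      ((g : Matrix D.Idx D.Idx K) i j) ^ (p ^ a) = (g : Matrix D.Idx D.Idx K) i j) :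
    M ≠ D.group K ∧ ∀ H : Subgroup (GL D.Idx K), M ≤ H → H ≤ D.group K → H = M ∨ H = D.group K := by
  classical
  obtain ⟨T, hc, hcomm⟩ := exists_checked' hD
  set σ := powMap K p a
  have hcard := card_fixedOf p (card_fixed_finite p ha hr.one_le hK)
  have hM' : ∀ g : GL D.Idx K, g ∈ M ↔ g ∈ D.group K ∧ glMap D σ g = g := fun g => by
    rw [hM, fixed_iff]; rfl
  have h0 : 0 < D.nroots := by
    simp only [List.mem_cons, List.not_mem_nil, or_false] at hD
    rcases hD with rfl | rfl | rfl | rfl | rfl | rfl | rfl <;> decide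
  obtain ⟨t, ht⟩ : ∃ t : K, σ t ≠ t := by
    by_contra h
    push Not at h
    have htop : Nat.card (fixedOf σ) = Fintype.card K := by
      rw [← Nat.card_eq_fintype_card]
      exact Nat.card_congr (Equiv.subtypeUnivEquiv fun x => h x)
    rw [hcard, hK] at htop
    have h1 : 1 < p ^ a := Nat.one_lt_pow (by omega) (Fact.out : p.Prime).one_lt
    nth_rewrite 1 [← pow_one (p ^ a)] at htop
    exact hr.one_lt.ne (Nat.pow_right_injective h1 htop)
  refine ⟨fun e => ?_, fun H hMH hH => ?_⟩
  · have h1 := ((hM' _).1 (e.symm ▸ elX_mem_group hc h0 t)).2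
    rw [glMap_elX hc σ h0] at h1
    refine ht (sub_eq_zero.1 ((elX_eq_one_iff hc h0 _).1 ?_))
    rw [sub_eq_add_neg, ← elX_add hc K h0, h1, elX_add hc K h0, add_neg_cancel, elX_zero hc K h0]
  have hS : Setting D K σ H := ⟨inferInstance, hH, fun s hs x hx =>
    hMH ((hM' _).2 ⟨elX_mem_group hc hs x, by rw [glMap_elX hc σ hs, hx]⟩)⟩
  rcases dichotomy hD p hS with hfix | ⟨L, hLfin, hFL, ⟨c, hcL, hcne⟩, hLH⟩
  · exact Or.inl (le_antisymm (fun h hh => (hM' h).2 ⟨hH hh, hfix h hh⟩) hMH)
  · right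
    refine le_antisymm hH ?_
    let F₀ := fixedOf σ
    letI : Fintype F₀ := Fintype.ofFinite _
    have hfr : Module.finrank F₀ K = r := by
      have h1 : Fintype.card K = Fintype.card F₀ ^ Module.finrank F₀ K := Module.card_eq_pow_finrank
      rw [← Nat.card_eq_fintype_card (α := F₀), show Nat.card F₀ = p ^ a from hcard, hK] at h1
      exact (Nat.pow_right_injective (Nat.one_lt_pow (by omega) (Fact.out : p.Prime).one_lt) h1).symm
    haveI := IntermediateField.isSimpleOrder_of_finrank_prime F₀ K (by rw [hfr]; exact hr)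
    let L' : IntermediateField F₀ K := L.toIntermediateField fun x => hFL _ x.2
    have htop : L' = ⊤ := (eq_bot_or_eq_top L').resolve_left fun hbot => hcne (by
      obtain ⟨x, hx⟩ := IntermediateField.mem_bot.1 (hbot ▸ (show c ∈ L' from hcL))
      rw [← hx]; exact x.2)
    have hall : ∀ x : K, x ∈ L := fun x => show x ∈ L' by rw [htop]; exact IntermediateField.mem_top
    rw [group_eq hc, uGen_le_iff]
    intro s hs _ x
    exact hLH s hs x (hall x)

/-- a finite overgroup of the group over a finite subfield lies between the groups over a finite field -/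
theorem finite_overgroup [IsAlgClosed K] (p : ℕ) [Fact p.Prime] [CharP K p] (a : ℕ) (ha : 1 ≤ a)
    {M : Subgroup (GL D.Idx K)} (hMfin : Finite ↥M) (hMG : M ≤ D.group K)
    (hLM : Subgroup.closure {g : GL D.Idx K | ∃ (s : ℕ) (t : K), t ^ (p ^ a) = t ∧
      (g : Matrix D.Idx D.Idx K) = D.x K s t} ≤ M) :
    ∃ r : ℕ, 1 ≤ r ∧ Subgroup.closure {g : GL D.Idx K | ∃ (s : ℕ) (t : K), t ^ ((p ^ a) ^ r) = t ∧
      (g : Matrix D.Idx D.Idx K) = D.x K s t} ≤ M ∧
      ∀ g ∈ M, ∀ i j : D.Idx,
        ((g : Matrix D.Idx D.Idx K) i j) ^ ((p ^ a) ^ r) = (g : Matrix D.Idx D.Idx K) i j := by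
  classical
  obtain ⟨T, hc, hcomm⟩ := exists_checked' hD
  have h0 : 0 < D.nroots := by
    simp only [List.mem_cons, List.not_mem_nil, or_false] at hD
    rcases hD with rfl | rfl | rfl | rfl | rfl | rfl | rfl <;> decide
  let P : ℕ → Prop := fun r => 1 ≤ r ∧ ∀ s < D.nroots, ∀ t : K, t ^ ((p ^ a) ^ r) = t → elX D K s t ∈ M
  have hP1 : P 1 := ⟨le_rfl, fun s hs t ht => hLM (Subgroup.subset_closure ⟨s, t, by rwa [pow_one] at ht,
    coe_elX hc K hs t⟩)⟩
  have hq : 1 < p ^ a := Nat.one_lt_pow (by omega) (Fact.out : p.Prime).one_lt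
  have hbound : ∀ r, P r → (p ^ a) ^ r ≤ Nat.card ↥M := by
    intro r hr
    have hcardS := card_fixed_alg_closed (K := K) p (n := a * r) (by nlinarith [hr.1])
    rw [pow_mul] at hcardS
    rw [← hcardS]
    refine Nat.card_le_card_of_injective (fun t => (⟨elX D K 0 t.1, hr.2 0 h0 t.1 t.2⟩ : ↥M)) fun s t h => ?_
    refine Subtype.ext (sub_eq_zero.1 ((elX_eq_one_iff hc h0 _).1 ?_))
    have h' : elX D K 0 s.1 = elX D K 0 t.1 := congrArg Subtype.val h
    rw [sub_eq_add_neg, ← elX_add hc K h0, h', elX_add hc K h0, add_neg_cancel, elX_zero hc K h0]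
  have hlt : ∀ r, P r → r < Nat.card ↥M + 1 := fun r hr => by
    have := Nat.lt_pow_self (n := r) hq
    have := hbound r hr
    omega
  set r₀ := Nat.findGreatest P (Nat.card ↥M)
  have hr₀ : P r₀ := Nat.findGreatest_spec (P := P) (m := 1) (by have := hlt 1 hP1; omega) hP1
  have hmax : ∀ r, P r → r ≤ r₀ := fun r hr => Nat.le_findGreatest (by have := hlt r hr; omega) hr
  set σ := powMap K p (a * r₀)
  have hσ : ∀ x : K, σ x = x ^ ((p ^ a) ^ r₀) := fun x => by rw [powMap_apply, pow_mul]
  refine ⟨r₀, hr₀.1, (Subgroup.closure_le _).2 ?_, ?_⟩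
  · rintro g ⟨s, t, ht, hg⟩
    by_cases hs : s < D.nroots
    · rw [eq_elX_of_coe hc hs hg]
      exact hr₀.2 s hs t ht
    · rw [show g = 1 from Units.ext (by rw [hg, ChevalleyDatum.x, dif_neg hs]; rfl)]
      exact one_mem _
  · have hS : Setting D K σ M := ⟨hMfin, hMG, fun s hs x hx => hr₀.2 s hs x (by rw [← hσ]; exact hx)⟩
    rcases dichotomy hD p hS with hfix | ⟨L, hLfin, hFL, ⟨c, hcL, hcne⟩, hLM'⟩
    · intro g hg i j
      rw [← hσ]
      exact (fixed_iff σ g).1 (hfix g hg) i j
    · exfalso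
      haveI := hLfin
      have hcard := card_fixedOf p (card_fixed_alg_closed (K := K) p (n := a * r₀) (by nlinarith [hr₀.1]))
      have hle : fixedOf σ ≤ L := fun x hx => hFL x hx
      haveI : Finite (fixedOf σ) :=
        Nat.finite_of_card_ne_zero (by rw [hcard]; exact pow_ne_zero _ (Fact.out : p.Prime).ne_zero)
      obtain ⟨m, hm⟩ := card_subfield hle
      rw [show Nat.card (fixedOf σ) = p ^ (a * r₀) from hcard, pow_mul, ← pow_mul (p ^ a)] at hm
      have hm2 : 2 ≤ m := by
        by_contra hlt'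
        have hLF : Nat.card L ≤ Nat.card (fixedOf σ) := by
          rw [hm, show Nat.card (fixedOf σ) = p ^ (a * r₀) from hcard, pow_mul p a r₀]
          exact Nat.pow_le_pow_right (by omega) (by
            rcases (show m = 0 ∨ m = 1 by omega) with rfl | rfl <;> simp)
        let f : fixedOf σ → L := fun x => ⟨x.1, hle x.2⟩
        have hf : Function.Injective f := fun x y h => Subtype.ext (congrArg (fun z : L => (z : K)) h)
        letI := Fintype.ofFinite (fixedOf σ)
        letI := Fintype.ofFinite L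
        have hbij : Function.Bijective f := (Fintype.bijective_iff_injective_and_card f).2
          ⟨hf, le_antisymm (Fintype.card_le_of_injective f hf) (by simpa [Nat.card_eq_fintype_card] using hLF)⟩
        obtain ⟨x, hx⟩ := hbij.2 ⟨c, hcL⟩
        have hxc : (x : K) = c := congrArg Subtype.val hx
        exact hcne (by rw [← hxc]; exact x.2)
      have hPm : P (r₀ * m) := ⟨by nlinarith [hr₀.1], fun s hs t ht => hLM' s hs t
        (subfield_eq_roots t (by rw [hm]; exact ht))⟩
      have := hmax _ hPm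
      nlinarith [hr₀.1]

end

end CfsgLib.ChevCent.Over
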