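import Cfsg.Agent.Lib.ChevCent.Subfield

/-!
# Unipotent elements commuting with the positive root elements with coefficient one
-/

set_option autoImplicit false
set_option linter.unusedSectionVars false

namespace CfsgLib.ChevCent.Over

open Cfsg.Lie CfsgLib.Chev CfsgLib.ChevField

variable {D : ChevalleyDatum} {T : Tabs} {K : Type*} [Field K]

/-- a positive root -/
abbrev PosR (D : ChevalleyDatum) (r : ℕ) : Prop := D.nroots / 2 ≤ r

/-- the positive unipotent group -/
abbrev UP (D : ChevalleyDatum) (K : Type*) [Field K] : Subgroup (GL D.Idx K) := uGen D K (PosR D)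

/-- the commutator terms of the members of `Z` with the positive roots vanish in `K` -/
def CenOK (D : ChevalleyDatum) (K : Type*) [Field K] (Z : List ℕ) : Prop :=
  ∀ r ∈ Z, r < D.nroots ∧ PosR D r ∧ ∀ s < D.nroots, PosR D s → ∀ q ∈ D.commTerms r s, ((q.2.1 : ℤ) : K) = 0

/-- every positive root outside `Z` has a partner with invertible first commutator term -/
def WitOK (D : ChevalleyDatum) (K : Type*) [Field K] (Z : List ℕ) : Prop :=
  ∀ r < D.nroots, PosR D r → r ∉ Z → ∃ s < D.nroots, PosR D s ∧ s ≠ r ∧ ∃ q ∈ D.commTerms r s,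
    q.2.2.1 = 1 ∧ q.2.2.2 = 1 ∧ ((q.2.1 : ℤ) : K) ≠ 0 ∧ (D.commTerms r s).filter (fun p => p.1 == q.1) = [q]

section
variable (hc : Checked D T)
include hc

theorem glMap_uProd (σ : K →+* K) {L : List ℕ} (hL : ∀ r ∈ L, r < D.nroots) (t : ℕ → K) :
    glMap D σ (uProd D K L t) = uProd D K L (fun r => σ (t r)) := by
  rw [uProd, uProd, map_list_prod, List.map_map]
  exact congrArg List.prod (List.map_congr_left fun r hr => glMap_elX hc σ (hL r hr) (t r))

theorem uProd_eq_one {L : List ℕ} (hL : ∀ r ∈ L, r < D.nroots) {t : ℕ → K} (h : ∀ r ∈ L, t r = 0) :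
    uProd D K L t = 1 := by
  refine List.prod_eq_one fun x hx => ?_
  obtain ⟨r, hr, rfl⟩ := List.mem_map.1 hx
  rw [h r hr, elX_zero hc K (hL r hr)]

theorem uProd_add_of_commute {L : List ℕ} (hL : ∀ r ∈ L, r < D.nroots) (t e : ℕ → K)
    (h : ∀ r ∈ L, ∀ s ∈ L, Commute (elX D K r (e r)) (elX D K s (t s))) :
    uProd D K L (fun r => t r + e r) = uProd D K L t * uProd D K L e := by
  induction L with
  | nil => simp [uProd]
  | cons a l ih =>
    have e1 := ih (fun r hr => hL r (List.mem_cons_of_mem _ hr))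
      (fun r hr s hs => h r (List.mem_cons_of_mem _ hr) s (List.mem_cons_of_mem _ hs))
    simp only [uProd, List.map_cons, List.prod_cons] at e1 ⊢
    rw [e1, ← elX_add hc K (hL a (List.mem_cons_self ..))]
    have hcm : Commute (elX D K a (e a)) ((l.map fun r => elX D K r (t r)).prod) :=
      Commute.list_prod_right _ _ fun x hx => by
        obtain ⟨s, hs, rfl⟩ := List.mem_map.1 hx
        exact h a (List.mem_cons_self ..) s (List.mem_cons_of_mem _ hs)
    simp only [mul_assoc]
    rw [← mul_assoc (elX D K a (e a)), hcm.eq, mul_assoc]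

theorem cen_commute {Z : List ℕ} (hcomm : CommOne D T) (hZ : CenOK D K Z) {r : ℕ} (hr : r ∈ Z)
    {g : GL D.Idx K} (hg : g ∈ UP D K) (a : K) : Commute (elX D K r a) g := by
  obtain ⟨hrn, hrp, hz⟩ := hZ r hr
  have : UP D K ≤ Subgroup.centralizer {elX D K r a} := by
    refine uGen_le_iff.2 fun s hs hsp b => Subgroup.mem_centralizer_singleton_iff.2 ?_
    by_cases hsr : s = r
    · subst hsr
      rw [elX_add hc K hs, elX_add hc K hs, add_comm]
    · have hne := ne_neg_of_pos hc hrn hrp hsp
      have e := elX_comm hc hcomm hrn hs hsr hne a b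
      rw [show wordGL D K (D.commWord K r s a b) = 1 from List.prod_eq_one fun x hx => by
        obtain ⟨p, hp, rfl⟩ := List.mem_map.1 hx
        obtain ⟨c, hcm, rfl⟩ := List.mem_map.1 hp
        simp only [hz s hs hsp c hcm, zero_mul]
        exact elX_zero hc K (commTerms_weight hc hrn hs c hcm).1, mul_one] at e
      exact e
  exact (Subgroup.mem_centralizer_singleton_iff.1 (this hg)).symm

theorem uProd_pos (L : List ℕ) (hL : ∀ r ∈ L, r < D.nroots ∧ PosR D r) (t : ℕ → K) : uProd D K L t ∈ UP D K :=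
  Subgroup.list_prod_mem _ fun x hx => by
    obtain ⟨r, hr, rfl⟩ := List.mem_map.1 hx
    exact elX_mem_uGen (hL r hr).1 (P := PosR D) (hL r hr).2 _

/-- the roots above `v` give a normal subgroup of the positive unipotent group -/
theorem above_normal (hcomm : CommOne D T) {v : ℕ} (hv : PosR D v) :
    UP D K ≤ Subgroup.normalizer (uGen D K (fun a => v < a) : Set (GL D.Idx K)) := by
  refine uGen_le_iff.2 fun a ha hap c => elX_mem_normalizer hc hcomm ha (fun s hs hS _ => ?_) c
  have hsp : PosR D s := le_trans hv (le_of_lt hS)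
  exact ⟨ne_neg_of_pos hc ha hap hsp, fun w hw => lt_trans hS (combRoot_gt hc ha hs hap hsp hw).2⟩

variable (hcomm : CommOne D T)
include hcomm

/-- commutators with roots above `r` lie above `r + s` -/
theorem comm_high {r s v : ℕ} (hr : r < D.nroots) (hs : s < D.nroots) (hrp : PosR D r) (hsp : PosR D s)
    (hv : v < D.nroots) (hvr : rv D T v = rv D T r + rv D T s) {k : GL D.Idx K}
    (hk : k ∈ uGen D K (fun a => r < a)) (b : K) :
    k * elX D K s b * k⁻¹ * (elX D K s b)⁻¹ ∈ uGen D K (fun a => v < a) := by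
  have hvp : PosR D v := by
    refine (key_pos_iff hc hv (T := T)).1 ?_
    rw [hvr, keyLin_add]
    have := (key_pos_iff hc hr (T := T)).2 hrp; have := (key_pos_iff hc hs (T := T)).2 hsp
    omega
  have hN := above_normal hc hcomm (K := K) hvp
  have hle : uGen D K (fun a => r < a) ≤ UP D K := uGen_mono fun a _ ha => le_trans hrp (le_of_lt ha)
  induction hk using Subgroup.closure_induction with
  | mem x hx =>
      obtain ⟨a, c, ha, hra, rfl⟩ := hx
      by_cases has : s = a
      · subst has
        rw [elX_add hc K hs, elX_inv hc K hs c, elX_add hc K hs, show c + b + -c = b by ring, mul_inv_cancel]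
        exact one_mem _
      have hap : PosR D a := le_trans hrp (le_of_lt hra)
      rw [elX_conj_elX hc hcomm ha hs has (ne_neg_of_pos hc ha hap hsp)]
      have hw : wordGL D K (D.commWord K a s (-c) b) ∈ uGen D K (fun a => v < a) := by
        refine wordGL_mem hc ha hs (fun w hw => ?_) _ _
        obtain ⟨hwn, i, j, hi, hj, e⟩ := hw
        rw [← key_lt_iff hc hv hwn, hvr, e, keyLin_add, keyLin_add, keyLin_smul, keyLin_smul]
        have h1 := (key_lt_iff hc hr ha (T := T)).2 hra
        have h2 := (key_pos_iff hc hs (T := T)).2 hsp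
        have h3 := (key_pos_iff hc ha (T := T)).2 hap
        have hi' : (1 : ℤ) ≤ (i : ℤ) := by exact_mod_cast hi
        have hj' : (1 : ℤ) ≤ (j : ℤ) := by exact_mod_cast hj
        nlinarith
      exact (Subgroup.mem_normalizer_iff.1 (hN (elX_mem_uGen hs (P := PosR D) hsp b)) _).1 hw
  | one => simp
  | mul x y hx _ ihx ihy =>
      have hxU : x ∈ UP D K := hle hx
      have := mul_mem ((Subgroup.mem_normalizer_iff.1 (hN hxU) _).1 ihy) ihx
      convert this using 1
      group
  | inv x hx ihx =>
      have hxU : x⁻¹ ∈ UP D K := inv_mem (hle hx)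
      have := (Subgroup.mem_normalizer_iff.1 (hN hxU) _).1 (inv_mem ihx)
      convert this using 1
      group

/-- a positive unipotent element commuting with all positive root elements with coefficient one is central -/
theorem supp_central {Z : List ℕ} (hZ : CenOK D K Z) (hW : WitOK D K Z) {w : GL D.Idx K} (hw : w ∈ UP D K)
    (h : ∀ s < D.nroots, PosR D s → w * elX D K s 1 = elX D K s 1 * w) :
    ∃ t, w = uProd D K (rootsFrom D (PosR D) 0) t ∧ ∀ r, r ∉ Z → t r = 0 := by
  classical
  set R := rootsFrom D (PosR D) 0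
  have hR : ∀ r ∈ R, r < D.nroots ∧ PosR D r := fun r hr => ⟨(mem_rootsFrom.1 hr).2.1, (mem_rootsFrom.1 hr).2.2⟩
  obtain ⟨t, rfl⟩ := uGen_exists hc hcomm (closedPos_pos hc) hw
  set t0 : ℕ → K := fun r => if r ∈ Z then 0 else t r
  set te : ℕ → K := fun r => if r ∈ Z then t r else 0
  have hcm : ∀ r ∈ R, ∀ g ∈ UP D K, Commute (elX D K r (te r)) g := by
    intro r hr g hg
    by_cases hrZ : r ∈ Z
    · exact cen_commute hc hcomm hZ hrZ hg _
    · simp only [te, if_neg hrZ, elX_zero hc K (hR r hr).1]
      exact Commute.one_left g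
  have esplit : uProd D K R t = uProd D K R t0 * uProd D K R te := by
    rw [← uProd_add_of_commute hc (fun r hr => (hR r hr).1) t0 te fun r hr s hs =>
      hcm r hr _ (elX_mem_uGen (hR s hs).1 (P := PosR D) (hR s hs).2 _)]
    exact uProd_congr fun r _ => by simp only [t0, te]; split <;> simp
  have he : ∀ g ∈ UP D K, Commute (uProd D K R te) g := fun g hg =>
    Commute.list_prod_left _ _ fun x hx => by
      obtain ⟨r, hr, rfl⟩ := List.mem_map.1 hx
      exact hcm r hr g hg
  have h0 : ∀ s < D.nroots, PosR D s → uProd D K R t0 * elX D K s 1 = elX D K s 1 * uProd D K R t0 := by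
    intro s hs hsp
    have e1 := h s hs hsp
    rw [esplit, mul_assoc, (he _ (elX_mem_uGen hs (P := PosR D) hsp 1)).eq, ← mul_assoc, ← mul_assoc] at e1
    exact mul_right_cancel e1
  suffices key : ∀ d k, D.nroots - k = d → (∀ r, r < k → PosR D r → t0 r = 0) →
      ∀ r < D.nroots, PosR D r → t0 r = 0 by
    refine ⟨te, ?_, fun r hr => if_neg hr⟩
    rw [esplit, uProd_eq_one hc (fun r hr => (hR r hr).1)
      (fun r hr => key _ 0 rfl (fun r hr => absurd hr (Nat.not_lt_zero r)) r (hR r hr).1 (hR r hr).2), one_mul]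
  intro d
  induction d with
  | zero => intro k hk hzero r hr hrp; exact hzero r (by omega) hrp
  | succ d ih =>
    intro k hk hzero
    refine ih (k + 1) (by omega) fun r hr hrp => ?_
    rcases Nat.lt_succ_iff_lt_or_eq.1 hr with hlt | rfl
    · exact hzero r hlt hrp
    by_cases hrZ : r ∈ Z
    · simp [t0, hrZ]
    by_contra hne
    have hrn : r < D.nroots := by omega
    obtain ⟨s, hs, hsp, hsr, q, hq, hq1, hq2, hqu, hfil⟩ := hW r hrn hrp hrZ
    obtain ⟨hvn, -, -, hev⟩ := commTerms_weight hc hrn hs q hq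
    rw [hq1, hq2, Nat.cast_one, one_smul, one_smul] at hev
    set v := q.1
    have hvp : PosR D v := by
      refine (key_pos_iff hc hvn (T := T)).1 ?_
      rw [hev, keyLin_add]
      have := (key_pos_iff hc hrn (T := T)).2 hrp; have := (key_pos_iff hc hs (T := T)).2 hsp
      omega
    -- the product led by `r`
    have hlead : ∀ j ≤ r, uProd D K R t0 = uProd D K (rootsFrom D (PosR D) j) t0 := by
      intro j
      induction j with
      | zero => intro _; rfl
      | succ j ihj =>
        intro hj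
        rw [ihj (by omega)]
        by_cases hP : PosR D j
        · rw [rootsFrom_eq_cons (by omega) hP, uProd, List.map_cons, List.prod_cons, hzero j (by omega) hP,
            elX_zero hc K (show j < D.nroots by omega), one_mul]
          rfl
        · rw [rootsFrom_eq_skip (by omega) hP]
    set k' := uProd D K (rootsFrom D (PosR D) (r + 1)) t0
    have hk' : k' ∈ uGen D K (fun a => r < a) := uGen_mono (fun a _ ha => ha.2) (uProd_mem hc (r + 1) t0)
    have hw0 : uProd D K R t0 = elX D K r (t0 r) * k' := by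
      rw [hlead r le_rfl, rootsFrom_eq_cons hrn hrp, uProd, List.map_cons, List.prod_cons]; rfl
    have e := h0 s hs hsp
    rw [hw0] at e
    set N := uGen D K (fun a => v < a)
    have hN := above_normal hc hcomm (K := K) hvp
    have hX : ∀ a {i : ℕ}, i < D.nroots → PosR D i → elX D K i a ∈ UP D K := fun a {i} hi hip =>
      elX_mem_uGen hi (P := PosR D) hip a
    have c1 : elX D K r (t0 r) * (k' * elX D K s 1 * k'⁻¹ * (elX D K s 1)⁻¹) * (elX D K r (t0 r))⁻¹ ∈ N :=
      (Subgroup.mem_normalizer_iff.1 (hN (hX _ hrn hrp)) _).1 (comm_high hc hcomm hrn hs hrp hsp hvn hev hk' 1)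
    have c2 : elX D K r (t0 r) * elX D K s 1 * (elX D K r (t0 r))⁻¹ * (elX D K s 1)⁻¹ ∈ N := by
      have hone : elX D K r (t0 r) * (k' * elX D K s 1 * k'⁻¹ * (elX D K s 1)⁻¹) * (elX D K r (t0 r))⁻¹ *
          (elX D K r (t0 r) * elX D K s 1 * (elX D K r (t0 r))⁻¹ * (elX D K s 1)⁻¹) = 1 := by
        rw [show elX D K r (t0 r) * (k' * elX D K s 1 * k'⁻¹ * (elX D K s 1)⁻¹) * (elX D K r (t0 r))⁻¹ *
          (elX D K r (t0 r) * elX D K s 1 * (elX D K r (t0 r))⁻¹ * (elX D K s 1)⁻¹)
          = (elX D K r (t0 r) * k') * elX D K s 1 * (elX D K r (t0 r) * k')⁻¹ * (elX D K s 1)⁻¹ by group, e]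
        group
      rw [eq_inv_of_mul_eq_one_right hone]
      exact inv_mem c1
    rw [elX_conj_elX hc hcomm hrn hs hsr (ne_neg_of_pos hc hrn hrp hsp)] at c2
    have c3 : wordGL D K (D.commWord K r s (-t0 r) 1) ∈ N := by
      have := (Subgroup.mem_normalizer_iff.1 (hN (inv_mem (hX 1 hs hsp))) _).1 c2
      convert this using 1
      group
    -- the word modulo the higher roots
    set f : ℕ × ℤ × ℕ × ℕ → GL D.Idx K := fun p => elX D K p.1 ((p.2.1 : K) * (-(-t0 r)) ^ p.2.2.1 * 1 ^ p.2.2.2)
    have hall : wordGL D K (D.commWord K r s (-t0 r) 1) = ((D.commTerms r s).map f).prod := by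
      simp only [wordGL, ChevalleyDatum.commWord, List.map_map]; rfl
    have hterm : ∀ p ∈ D.commTerms r s, p.1 < D.nroots ∧ PosR D p.1 ∧ (p.1 ≠ v → v < p.1) := by
      intro p hp
      obtain ⟨hpn, hi, hj, ep⟩ := commTerms_weight hc hrn hs p hp
      have h1 := (key_pos_iff hc hrn (T := T)).2 hrp
      have h2 := (key_pos_iff hc hs (T := T)).2 hsp
      have hi' : (1 : ℤ) ≤ (p.2.2.1 : ℤ) := by exact_mod_cast hi
      have hj' : (1 : ℤ) ≤ (p.2.2.2 : ℤ) := by exact_mod_cast hj
      have hge : keyLin D (rv D T v) ≤ keyLin D (rv D T p.1) := by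
        rw [ep, hev, keyLin_add, keyLin_add, keyLin_smul, keyLin_smul]; nlinarith
      refine ⟨hpn, (key_pos_iff hc hpn (T := T)).1 (by rw [hev, keyLin_add] at hge; omega), fun hne' => ?_⟩
      rcases lt_trichotomy v p.1 with h' | h' | h'
      · exact h'
      · exact absurd h'.symm hne'
      · have := (key_lt_iff hc hpn hvn (T := T)).2 h'; omega
    obtain ⟨c, hcN, hprod⟩ : ∃ c ∈ N, ((D.commTerms r s).map f).prod
        = (((D.commTerms r s).filter fun p => p.1 == v).map f).prod * c := by
      generalize hl : D.commTerms r s = l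
      rw [hl] at hterm
      clear hl hfil hq
      induction l with
      | nil => exact ⟨1, one_mem _, by simp⟩
      | cons p l ihl =>
        obtain ⟨c, hc', ec⟩ := ihl fun x hx => hterm x (List.mem_cons_of_mem _ hx)
        obtain ⟨hpn, hpp, hpgt⟩ := hterm p (List.mem_cons_self ..)
        by_cases hpv : p.1 = v
        · refine ⟨c, hc', ?_⟩
          rw [List.filter_cons_of_pos (by simpa using hpv), List.map_cons, List.map_cons, List.prod_cons,
            List.prod_cons, ec, mul_assoc]
        · set P := ((l.filter fun p => p.1 == v).map f).prod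
          have hP : P ∈ UP D K := Subgroup.list_prod_mem _ fun x hx => by
            obtain ⟨y, hy, rfl⟩ := List.mem_map.1 hx
            obtain ⟨hyn, hyp, -⟩ := hterm y (List.mem_cons_of_mem _ (List.mem_of_mem_filter hy))
            exact hX _ hyn hyp
          refine ⟨P⁻¹ * f p * P * c, mul_mem
            ((Subgroup.mem_normalizer_iff''.1 (hN hP) _).1 (elX_mem_uGen hpn (P := fun a => v < a) (hpgt hpv) _)) hc', ?_⟩
          rw [List.filter_cons_of_neg (by simpa using hpv), List.map_cons, List.prod_cons, ec]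
          simp only [P]
          group
    rw [hall, hprod, hfil, List.map_singleton, List.prod_singleton] at c3
    have c4 : f q ∈ N := by simpa using mul_mem c3 (inv_mem hcN)
    obtain ⟨j, hj⟩ := exists_cv_ne_zero hc K hvn
    have e1 := coord_eq hc hvn hvp ((q.2.1 : K) * t0 r) (one_mem (uGen D K (fun a => v < a))) j
    have e2 := coord_eq hc hvn hvp 0 c4 j
    have hfq : f q = elX D K v ((q.2.1 : K) * t0 r) := by simp [f, hq1, v]
    rw [mul_one] at e1
    rw [elX_zero hc K hvn, one_mul, hfq, e1] at e2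
    simp [hj, hqu, hne] at e2

/-- an element moved by the field map only by a central element is a fixed element times a central one -/
theorem exists_fixed_mul_central {Z : List ℕ} (hZ : CenOK D K Z) (hW : WitOK D K Z) (σ : K →+* K)
    {u : GL D.Idx K} (hu : u ∈ UP D K)
    (h : ∀ s < D.nroots, PosR D s → glMap D σ (u * elX D K s 1 * u⁻¹) = u * elX D K s 1 * u⁻¹) :
    ∃ u₁ ∈ UP D K, glMap D σ u₁ = u₁ ∧ ∃ t : ℕ → K, (∀ r, r ∉ Z → t r = 0) ∧
      u = u₁ * uProd D K (rootsFrom D (PosR D) 0) t := by
  classical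
  set R := rootsFrom D (PosR D) 0
  have hR : ∀ r ∈ R, r < D.nroots ∧ PosR D r := fun r hr => ⟨(mem_rootsFrom.1 hr).2.1, (mem_rootsFrom.1 hr).2.2⟩
  have hσu := glMap_uGen hc σ hu
  obtain ⟨e, he, hez⟩ := supp_central hc hcomm hZ hW (mul_mem (inv_mem hu) hσu) (fun s hs hsp => by
    have e1 := h s hs hsp
    rw [map_mul, map_mul, map_inv, glMap_elX hc σ hs, map_one] at e1
    have e2 := congrArg (fun y => u⁻¹ * y * glMap D σ u) e1
    refine Eq.trans ?_ (e2.trans ?_) <;> group)
  obtain ⟨t, rfl⟩ := uGen_exists hc hcomm (closedPos_pos hc) hu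
  have hcm : ∀ (d : ℕ → K), (∀ r, r ∉ Z → d r = 0) → ∀ r ∈ R, ∀ g ∈ UP D K, Commute (elX D K r (d r)) g := by
    intro d hd r hr g hg
    by_cases hrZ : r ∈ Z
    · exact cen_commute hc hcomm hZ hrZ hg _
    · rw [hd r hrZ, elX_zero hc K (hR r hr).1]; exact Commute.one_left g
  have hsum : uProd D K R (fun r => σ (t r)) = uProd D K R (fun r => t r + e r) := by
    rw [uProd_add_of_commute hc (fun r hr => (hR r hr).1) t e fun r hr s hs =>
      hcm e hez r hr _ (elX_mem_uGen (hR s hs).1 (P := PosR D) (hR s hs).2 _), ← he,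
      mul_inv_cancel_left, glMap_uProd hc σ fun r hr => (hR r hr).1]
  have hfx := uProd_inj hc (fun r _ hh => hh) 0 hsum
  set t1 : ℕ → K := fun r => if r ∈ Z then 0 else t r
  set tz : ℕ → K := fun r => if r ∈ Z then t r else 0
  refine ⟨uProd D K R t1, uProd_pos hc R hR t1, ?_, tz, fun r hr => if_neg hr, ?_⟩
  · rw [glMap_uProd hc σ fun r hr => (hR r hr).1]
    refine uProd_congr fun r hr => ?_
    by_cases hrZ : r ∈ Z
    · simp [t1, hrZ]
    · simp only [t1, if_neg hrZ]
      rw [hfx r hr, hez r hrZ, add_zero]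
  · rw [← uProd_add_of_commute hc (fun r hr => (hR r hr).1) t1 tz fun r hr s hs =>
      hcm tz (fun i hi => if_neg hi) r hr _ (elX_mem_uGen (hR s hs).1 (P := PosR D) (hR s hs).2 _)]
    exact uProd_congr fun r _ => by simp only [t1, tz]; split <;> simp

/-- fixed positive unipotent elements are products of root elements with fixed coefficients -/
theorem fixed_pos_mem (σ : K →+* K) {H : Subgroup (GL D.Idx K)}
    (hroot : ∀ r < D.nroots, ∀ a : K, σ a = a → elX D K r a ∈ H) {u : GL D.Idx K} (hu : u ∈ UP D K)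
    (hσ : glMap D σ u = u) : u ∈ H := by
  obtain ⟨t, rfl⟩ := uGen_exists hc hcomm (closedPos_pos hc) hu
  set R := rootsFrom D (PosR D) 0
  rw [glMap_uProd hc σ fun r hr => (mem_rootsFrom.1 hr).2.1] at hσ
  have hfx := uProd_inj hc (fun r _ h => h) 0 hσ
  exact Subgroup.list_prod_mem _ fun x hx => by
    obtain ⟨r, hr, rfl⟩ := List.mem_map.1 hx
    exact hroot r (mem_rootsFrom.1 hr).2.1 _ (hfx r hr)

end

end CfsgLib.ChevCent.Over
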